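import Cfsg.Agent.SimsThree.Classify

/-!
# Chains of length four
-/

set_option autoImplicit false
set_option linter.unusedSectionVars false

namespace CfsgLib.SimsThree

open Subgroup

variable {G : Type*} [Group G] [Finite G]

/-- A four-group. -/
def fourGroup (a b : G) (ha : a * a = 1) (hb : b * b = 1) (hab : a * b = b * a) : Subgroup G where
  carrier := {1, a, b, a * b}
  mul_mem' := by
    have h1 : ∀ x : G, a * (a * x) = x := fun x => by rw [← mul_assoc, ha, one_mul]
    have h2 : ∀ x : G, b * (b * x) = x := fun x => by rw [← mul_assoc, hb, one_mul]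
    have h3 : ∀ x : G, b * (a * x) = a * (b * x) := fun x => by rw [← mul_assoc, ← hab, mul_assoc]
    rintro x y (rfl | rfl | rfl | rfl) (rfl | rfl | rfl | rfl) <;>
      simp [mul_assoc, ha, hb, h1, h2, h3, ← hab]
  one_mem' := Or.inl rfl
  inv_mem' := by
    have ia : a⁻¹ = a := inv_eq_of_mul_eq_one_right ha
    have ib : b⁻¹ = b := inv_eq_of_mul_eq_one_right hb
    rintro x (rfl | rfl | rfl | rfl) <;> simp [mul_inv_rev, ia, ib, ← hab]

theorem card_fourGroup_le (a b : G) (ha : a * a = 1) (hb : b * b = 1) (hab : a * b = b * a) :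
    Nat.card (fourGroup a b ha hb hab) ≤ 4 := by
  show Nat.card ({1, a, b, a * b} : Set G) ≤ 4
  rw [Nat.card_coe_set_eq]
  refine (Set.ncard_insert_le _ _).trans (Nat.succ_le_succ ((Set.ncard_insert_le _ _).trans
    (Nat.succ_le_succ ((Set.ncard_insert_le _ _).trans ?_))))
  rw [Set.ncard_singleton]

/-- Conjugation by `y` normalises the closure of `S` if it maps `S` into it. -/
theorem mem_normalizer_closure {y : G} {S : Set G}
    (h : ∀ g ∈ S, y * g * y⁻¹ ∈ closure S) : y ∈ normalizer (closure S : Set G) := by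
  refine mem_normalizer_iff_map_conj_eq.2 (Subgroup.eq_of_le_of_card_ge ?_
    (card_map_of_injective (f := (MulAut.conj y).toMonoidHom) (MulAut.conj y).injective).ge)
  rw [MonoidHom.map_closure, closure_le]
  rintro _ ⟨g, hg, rfl⟩
  exact h g hg

/-- Length four. -/
theorem Chain.type_four (c : Chain G 4) (hK : c.NoCommon)
    (hcard : Nat.card (c.S 0 (4 + 1)) = 3 * 2 ^ 4) :
    Nonempty (c.S 0 (4 + 1) ≃* Equiv.Perm (Fin 4) × Multiplicative (ZMod 2)) := by
  have hn : 1 ≤ 4 := by norm_num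
  obtain ⟨hq3, -, -, hsix⟩ := c.quot_facts hn hcard
  obtain ⟨r, hr, hrn, -, hnc⟩ := c.exists_critical
  obtain rfl : r = 3 := by
    have h1 := c.two_mul_le hK hr hrn
    by_contra hne
    rcases Nat.lt_or_ge r 4 with h | h
    · rcases Nat.eq_zero_or_pos r with rfl | hpos
      · exact hnc (by norm_num) (by simp)
      · have := c.three_mul_ge hr hpos (by omega) (hnc h)
        omega
    · omega
  norm_num at hq3 hsix
  have M : ∀ (i : ℤ) (g : G), c.x i * (c.x i * g) = g := fun i g => by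
    rw [← mul_assoc, c.mul_self hn, one_mul]
  have CC : ∀ {i j : ℤ}, (i - j).natAbs < 3 → Commute (c.x i) (c.x j) :=
    fun h => Chain.CommUpTo.commute c hr h
  have CF : ∀ {i j : ℤ}, (i - j).natAbs < 3 → ∀ g, c.x i * (c.x j * g) = c.x j * (c.x i * g) :=
    fun h g => by rw [← mul_assoc, (CC h).eq, mul_assoc]
  set A := c.S 0 (4 + 1) with hA
  set X := c.S 1 3 with hX
  have hx : ∀ {j : ℤ}, 0 ≤ j → j ≤ 4 → c.x j ∈ A := fun h1 h2 => c.mem_S h1 (by omega)
  -- the critical commutator
  set w := c.x 0 * c.x 3 * c.x 0 * c.x 3 with hwdef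
  have hw12 : w ∈ c.S 1 2 := by simpa using c.comm_mem (j := 0) (k := 2) (by norm_num)
  have hw1 : w ≠ 1 := c.comm_ne_one hn (by exact_mod_cast hnc (by norm_num))
  have hwcases : w = c.x 1 ∨ w = c.x 2 ∨ w = c.x 1 * c.x 2 := by
    rcases Chain.split_head c hr hn (i := 1) (m := 1) (by norm_num) hw12 with h | h <;>
      norm_num at h <;> rcases c.eq_one_or_eq hn h with h | h
    · exact absurd h hw1
    · exact Or.inr (Or.inl h)
    · exact Or.inl (by rw [← c.inv_eq hn 1]; exact eq_inv_of_mul_eq_one_right h)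
    · exact Or.inr (Or.inr (by rw [← h, M]))
  set w' := c.x 1 * c.x 4 * c.x 1 * c.x 4 with hw'def
  have hw' : c.u * w * c.u⁻¹ = w' := by
    have := c.shift_comm 0 3 1
    rw [pow_one] at this
    norm_num at this
    exact this
  -- conjugation by `q`
  let ψ : G →* G := (MulAut.conj (c.x 0 * c.x 4)).toMonoidHom
  have hψ : ∀ g, ψ g = c.x 0 * (c.x 4 * g * c.x 4) * c.x 0 := fun g => by
    show c.x 0 * c.x 4 * g * (c.x 0 * c.x 4)⁻¹ = _
    rw [mul_inv_rev, c.inv_eq hn, c.inv_eq hn]
    simp only [mul_assoc]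
  have h0fix : ∀ {j : ℤ}, 0 ≤ j → j ≤ 2 → c.x 0 * c.x j * c.x 0 = c.x j := fun h1 h2 => by
    rw [(CC (by omega)).eq, mul_assoc, c.mul_self hn, mul_one]
  have h4fix : ∀ {j : ℤ}, 2 ≤ j → j ≤ 4 → c.x 4 * c.x j * c.x 4 = c.x j := fun h1 h2 => by
    rw [(CC (by omega)).eq, mul_assoc, c.mul_self hn, mul_one]
  have e0 : c.x 0 * c.x 3 * c.x 0 = w * c.x 3 := by
    rw [hwdef, mul_assoc _ (c.x 3) (c.x 3), c.mul_self hn, mul_one]
  have e4 : c.x 4 * c.x 1 * c.x 4 = c.x 1 * w' := by
    simp only [hw'def, mul_assoc, M]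
  have p2 : ψ (c.x 2) = c.x 2 := by
    rw [hψ, h4fix (by norm_num) (by norm_num), h0fix (by norm_num) (by norm_num)]
  have p3 : ψ (c.x 3) = w * c.x 3 := by rw [hψ, h4fix (by norm_num) (by norm_num), e0]
  -- `q ^ 3` lies in the abelian core
  have hcube : ∀ g ∈ X, ψ (ψ (ψ g)) = g := by
    intro g hg
    have h1 : Commute ((c.x 0 * c.x 4) ^ 3) g :=
      Chain.S_commute c hr hq3 hg fun p q _ _ _ _ => by omega
    show c.x 0 * c.x 4 * (c.x 0 * c.x 4 * (c.x 0 * c.x 4 * g * (c.x 0 * c.x 4)⁻¹) *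
      (c.x 0 * c.x 4)⁻¹) * (c.x 0 * c.x 4)⁻¹ = g
    calc _ = (c.x 0 * c.x 4) ^ 3 * g * ((c.x 0 * c.x 4) ^ 3)⁻¹ := by
          simp only [pow_succ, pow_zero, one_mul, mul_inv_rev, mul_assoc]
      _ = g := by rw [h1.eq, mul_inv_cancel_right]
  have hne12 : c.x 1 ≠ c.x 2 := fun e =>
    c.notMem_right 1 (m := 1) (by norm_num) (by rw [e]; exact c.mem_S (by norm_num) (by norm_num))
  have hW : w = c.x 1 * c.x 2 := by
    have h3X : c.x 3 ∈ X := c.mem_S (by norm_num) (by norm_num)
    rcases hwcases with h | h | h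
    · exfalso
      have p1 : ψ (c.x 1) = c.x 1 * c.x 2 := by
        rw [hψ, e4]
        have : w' = c.x 2 := by rw [← hw', h, c.shift]; norm_num
        rw [this]
        calc c.x 0 * (c.x 1 * c.x 2) * c.x 0
            = (c.x 0 * c.x 1 * c.x 0) * (c.x 0 * c.x 2 * c.x 0) := by simp only [mul_assoc, M]
          _ = _ := by rw [h0fix (by norm_num) (by norm_num), h0fix (by norm_num) (by norm_num)]
      have := hcube _ h3X
      rw [p3, h, map_mul, p1, p3, h, map_mul, map_mul, map_mul, p1, p2, p3, h] at this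
      simp [mul_assoc, CF (i := 2) (j := 1) (by norm_num), M] at this
      rw [← mul_assoc, mul_eq_right, mul_eq_one_iff_eq_inv, c.inv_eq hn] at this
      exact hne12 this
    · exfalso
      have := hcube _ h3X
      rw [p3, h, map_mul, p2, p3, h, map_mul, map_mul, p2, p3, h] at this
      simp [mul_assoc, M] at this
      exact c.ne_one hn 2 this
    · exact h
  have hW' : w' = c.x 2 * c.x 3 := by
    have : c.u * (c.x 1 * c.x 2) * c.u⁻¹ = c.x 2 * c.x 3 := by
      have e1 := c.shift 1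
      have e2 := c.shift 2
      norm_num at e1 e2
      calc c.u * (c.x 1 * c.x 2) * c.u⁻¹ = (c.u * c.x 1 * c.u⁻¹) * (c.u * c.x 2 * c.u⁻¹) := by group
        _ = _ := by rw [e1, e2]
    rw [← hw', hW, this]
  rw [hW] at e0 p3
  rw [hW'] at e4
  set a := c.x 1 * c.x 2 with ha_def
  set b := c.x 2 * c.x 3 with hb_def
  have c12 := CF (i := 2) (j := 1) (by norm_num)
  have c13 := CF (i := 3) (j := 1) (by norm_num)
  have c23 := CF (i := 3) (j := 2) (by norm_num)
  have ha2 : a * a = 1 := by simp [ha_def, mul_assoc, c12, M, c.mul_self hn]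
  have hb2 : b * b = 1 := by simp [hb_def, mul_assoc, c23, M, c.mul_self hn]
  have hab : a * b = b * a := by
    simp only [ha_def, hb_def, mul_assoc, M]
    rw [c13, c12, (CC (i := 3) (j := 2) (by norm_num)).eq, M]
  have p1 : ψ (c.x 1) = c.x 3 := by
    rw [hψ, e4]
    calc c.x 0 * (c.x 1 * (c.x 2 * c.x 3)) * c.x 0
        = (c.x 0 * c.x 1 * c.x 0) * ((c.x 0 * c.x 2 * c.x 0) * (c.x 0 * c.x 3 * c.x 0)) := by
          simp only [mul_assoc, M]
      _ = _ := by
          rw [h0fix (by norm_num) (by norm_num), h0fix (by norm_num) (by norm_num), e0]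
          simp only [ha_def, mul_assoc, c12, M]
  -- fixed points of `q` in the core
  have hfix : ∀ z ∈ X, ψ z = z → z = 1 ∨ z = c.x 2 := by
    intro z hz hzfix
    have h2S : ∀ g ∈ c.S 2 2, g = 1 ∨ g = c.x 3 ∨ g = c.x 2 ∨ g = c.x 2 * c.x 3 := by
      intro g hg
      rcases Chain.split_head c hr hn (i := 2) (m := 1) (by norm_num) hg with h | h <;>
        norm_num at h <;> rcases c.eq_one_or_eq hn h with h | h
      · exact Or.inl h
      · exact Or.inr (Or.inl h)
      · exact Or.inr (Or.inr (Or.inl (by rw [← c.inv_eq hn 2]; exact eq_inv_of_mul_eq_one_right h)))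
      · exact Or.inr (Or.inr (Or.inr (by rw [← h, M])))
    have hne3 : c.x 3 ∉ c.S 1 2 := by
      intro h
      have : c.S 1 3 ≤ c.S 1 2 := c.S_le fun j h1 h2 => by
        by_cases hj : j = 3
        · subst hj; exact h
        · exact c.mem_S h1 (by omega)
      have := card_le_of_le this
      rw [c.card_S _ (by norm_num), c.card_S _ (by norm_num)] at this
      norm_num at this
    have k12 := (CC (i := 2) (j := 1) (by norm_num)).eq
    have k13 := (CC (i := 3) (j := 1) (by norm_num)).eq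
    have k23 := (CC (i := 3) (j := 2) (by norm_num)).eq
    have n31 : c.x 3 ≠ c.x 1 := fun e => hne3 (e ▸ c.mem_S le_rfl (by norm_num))
    have n32 : c.x 3 ≠ c.x 2 := fun e => hne3 (e ▸ c.mem_S (by norm_num) (by norm_num))
    have key : ∀ g, (g = 1 ∨ g = c.x 3 ∨ g = c.x 2 ∨ g = c.x 2 * c.x 3) →
        ψ (c.x 1 * g) ≠ c.x 1 * g := by
      rintro g (rfl | rfl | rfl | rfl) e <;>
        simp only [map_mul, map_one, p1, p2, p3, ha_def, mul_assoc, c12, c13, c23, k12, k13, k23,
          M, c.mul_self hn, mul_one] at e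
      · exact n31 e
      · exact n32 (mul_left_cancel e).symm
      · rw [← k12, mul_right_inj] at e
        exact n31 e
      · rw [left_eq_mul, mul_eq_one_iff_eq_inv, c.inv_eq hn] at e
        exact n32 e.symm
    rcases Chain.split_head c hr hn (i := 1) (m := 2) le_rfl hz with h | h <;> norm_num at h
    · rcases h2S z h with rfl | rfl | rfl | rfl
      · exact Or.inl rfl
      · exfalso
        rw [p3, mul_eq_right] at hzfix
        exact hw1 (hW.trans hzfix)
      · exact Or.inr rfl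
      · exfalso
        rw [map_mul, p2, p3, mul_right_inj, mul_eq_right] at hzfix
        exact hw1 (hW.trans hzfix)
    · exfalso
      exact key _ (h2S _ h) (by rw [M]; exact hzfix)
  -- the splitting
  have hcx2 : ∀ {j : ℤ}, 0 ≤ j → j ≤ 4 → Commute (c.x j) (c.x 2) := fun h1 h2 => CC (by omega)
  have hq : (c.x 0 * c.x 4) ^ 3 = 1 ∨ (c.x 0 * c.x 4) ^ 3 = c.x 2 := by
    refine hfix _ hq3 ?_
    show c.x 0 * c.x 4 * _ * (c.x 0 * c.x 4)⁻¹ = _
    rw [← pow_succ', pow_succ, mul_inv_cancel_right]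
  obtain ⟨t, ht2, hst, htA, ht1, ht4⟩ : ∃ t, t * t = 1 ∧ (c.x 0 * t) ^ 3 = 1 ∧ t ∈ A ∧
      (∀ g, Commute g (c.x 2) → t * g * t = c.x 4 * g * c.x 4) ∧
      c.x 4 ∈ ({t, t * c.x 2} : Set G) := by
    rcases hq with h | h
    · exact ⟨c.x 4, c.mul_self hn 4, h, hx (by norm_num) le_rfl, fun g _ => rfl, Or.inl rfl⟩
    · refine ⟨c.x 4 * c.x 2, ?_, ?_, mul_mem (hx (by norm_num) le_rfl)
        (hx (by norm_num) (by norm_num)), fun g hg => ?_, Or.inr ?_⟩
      · simp [mul_assoc, CF (i := 2) (j := 4) (by norm_num), M, c.mul_self hn]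
      · have hcm : Commute (c.x 0 * c.x 4) (c.x 2) :=
          (hcx2 le_rfl (by norm_num)).mul_left (hcx2 (by norm_num) le_rfl)
        rw [← mul_assoc, hcm.mul_pow, h, pow_succ, sq, c.mul_self hn, one_mul, c.mul_self hn]
      · have h1 : g * c.x 4 * c.x 2 = g * c.x 2 * c.x 4 := by
          rw [mul_assoc, (hcx2 (by norm_num) le_rfl).eq, ← mul_assoc]
        calc c.x 4 * c.x 2 * g * (c.x 4 * c.x 2)
            = c.x 4 * (c.x 2 * (g * c.x 4 * c.x 2)) := by simp only [mul_assoc]
          _ = c.x 4 * (c.x 2 * g * c.x 2 * c.x 4) := by rw [h1]; simp only [mul_assoc]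
          _ = c.x 4 * g * c.x 4 := by rw [← hg.eq, mul_assoc g, c.mul_self hn, mul_one, mul_assoc]
      · show c.x 4 = c.x 4 * c.x 2 * c.x 2
        rw [mul_assoc, c.mul_self hn, mul_one]
  have hti : t⁻¹ = t := inv_eq_of_mul_eq_one_right ht2
  set N := fourGroup a b ha2 hb2 hab with hNdef
  have hNa : a ∈ N := Or.inr (Or.inl rfl)
  have hNb : b ∈ N := Or.inr (Or.inr (Or.inl rfl))
  have hNc : closure {a, b} = N := by
    refine le_antisymm ((closure_le _).2 ?_) ?_
    · rintro g (rfl | rfl)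
      · exact hNa
      · exact hNb
    · rintro g (rfl | rfl | rfl | rfl)
      · exact one_mem _
      · exact subset_closure (Or.inl rfl)
      · exact subset_closure (Or.inr rfl)
      · exact mul_mem (subset_closure (Or.inl rfl)) (subset_closure (Or.inr rfl))
  have hca : Commute a (c.x 2) := (hcx2 (by norm_num) (by norm_num)).mul_left (Commute.refl _)
  have hcb : Commute b (c.x 2) := (Commute.refl _).mul_left (hcx2 (by norm_num) (by norm_num))
  have h0N : c.x 0 ∈ normalizer (N : Set G) := by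
    rw [← hNc]
    refine mem_normalizer_closure fun g hg => ?_
    rw [c.inv_eq hn, hNc]
    rcases hg with rfl | rfl
    · convert hNa using 1
      calc c.x 0 * a * c.x 0 = (c.x 0 * c.x 1 * c.x 0) * (c.x 0 * c.x 2 * c.x 0) := by
            simp only [ha_def, mul_assoc, M]
        _ = a := by rw [h0fix (by norm_num) (by norm_num), h0fix (by norm_num) (by norm_num)]
    · convert mul_mem hNa hNb using 1
      calc c.x 0 * b * c.x 0 = (c.x 0 * c.x 2 * c.x 0) * (c.x 0 * c.x 3 * c.x 0) := by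
            simp only [hb_def, mul_assoc, M]
        _ = c.x 2 * (a * c.x 3) := by rw [h0fix (by norm_num) (by norm_num), e0]
        _ = a * b := by simp only [ha_def, hb_def, mul_assoc, c12]
  have htN : t ∈ normalizer (N : Set G) := by
    rw [← hNc]
    refine mem_normalizer_closure fun g hg => ?_
    rw [hti, hNc]
    rcases hg with rfl | rfl
    · rw [ht1 _ hca]
      convert mul_mem hNa hNb using 1
      calc c.x 4 * a * c.x 4 = (c.x 4 * c.x 1 * c.x 4) * (c.x 4 * c.x 2 * c.x 4) := by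
            simp only [ha_def, mul_assoc, M]
        _ = a * b := by
            rw [e4, h4fix le_rfl (by norm_num)]
            simp only [ha_def, hb_def, mul_assoc]
            rw [(CC (i := 3) (j := 2) (by norm_num)).eq]
    · rw [ht1 _ hcb]
      convert hNb using 1
      calc c.x 4 * b * c.x 4 = (c.x 4 * c.x 2 * c.x 4) * (c.x 4 * c.x 3 * c.x 4) := by
            simp only [hb_def, mul_assoc, M]
        _ = b := by rw [h4fix le_rfl (by norm_num), h4fix (by norm_num) (by norm_num)]
  -- the dihedral part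
  set P := zpowers (c.x 0 * t) with hPdef
  have h0P : zpowers (c.x 0) ≤ normalizer (P : Set G) := by
    rw [zpowers_le, hPdef, zpowers_eq_closure (c.x 0 * t)]
    refine mem_normalizer_closure fun g hg => ?_
    rw [Set.mem_singleton_iff.1 hg, ← zpowers_eq_closure, c.inv_eq hn,
      show c.x 0 * (c.x 0 * t) * c.x 0 = (c.x 0 * t)⁻¹ by rw [M, mul_inv_rev, hti, c.inv_eq hn]]
    exact inv_mem (mem_zpowers _)
  have hPcard : Nat.card P ≤ 3 := by
    rw [Nat.card_zpowers]; exact Nat.le_of_dvd (by norm_num) (orderOf_dvd_of_pow_eq_one hst)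
  have h0card : Nat.card (zpowers (c.x 0)) ≤ 2 := by
    rw [Nat.card_zpowers]
    exact Nat.le_of_dvd (by norm_num) (orderOf_dvd_of_pow_eq_one (by rw [sq, c.mul_self hn]))
  set H := zpowers (c.x 0) ⊔ P with hHdef
  have hH : Nat.card H ≤ 6 := by
    have h1 := Solvable.card_sup_mul_card_inf h0P
    calc Nat.card H ≤ Nat.card H * Nat.card (zpowers (c.x 0) ⊓ P : Subgroup G) :=
          Nat.le_mul_of_pos_right _ Nat.card_pos
      _ = Nat.card (zpowers (c.x 0)) * Nat.card P := h1
      _ ≤ 2 * 3 := Nat.mul_le_mul h0card hPcard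
  have hH0 : c.x 0 ∈ H := mem_sup_left (mem_zpowers _)
  have hHt : t ∈ H := by
    have := mul_mem hH0 (mem_sup_right (mem_zpowers (c.x 0 * t)) : c.x 0 * t ∈ H)
    rwa [M] at this
  have hHN : H ≤ normalizer (N : Set G) :=
    sup_le (zpowers_le.2 h0N) (zpowers_le.2 (mul_mem h0N htN))
  set A0 := H ⊔ N with hA0def
  have hA0 : Nat.card A0 ≤ 24 := by
    calc Nat.card A0 ≤ Nat.card A0 * Nat.card (H ⊓ N : Subgroup G) :=
          Nat.le_mul_of_pos_right _ Nat.card_pos
      _ = Nat.card H * Nat.card N := Solvable.card_sup_mul_card_inf hHN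
      _ ≤ 6 * 4 := Nat.mul_le_mul hH (card_fourGroup_le _ _ _ _ _)
  set Z := zpowers (c.x 2) with hZdef
  have haA : a ∈ A := mul_mem (hx (by norm_num) (by norm_num)) (hx (by norm_num) (by norm_num))
  have hbA : b ∈ A := mul_mem (hx (by norm_num) (by norm_num)) (hx (by norm_num) (by norm_num))
  have hA0A : A0 ≤ A := by
    refine sup_le (sup_le (zpowers_le.2 (hx le_rfl (by norm_num)))
      (zpowers_le.2 (mul_mem (hx le_rfl (by norm_num)) htA))) ?_
    rw [← hNc, closure_le]
    rintro g (rfl | rfl)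
    · exact haA
    · exact hbA
  have hAc : A ≤ centralizer {c.x 2} := c.S_le fun j h1 h2 =>
    mem_centralizer_singleton_iff.2 (hcx2 h1 (by omega)).eq
  have hA0Z : A0 ≤ normalizer (Z : Set G) := by
    refine (hA0A.trans ?_).trans (centralizer_le_normalizer _)
    intro g hg
    rw [mem_centralizer_iff]
    rintro _ ⟨k, rfl⟩
    exact ((show Commute g (c.x 2) from mem_centralizer_singleton_iff.1 (hAc hg)).zpow_right k).eq.symm
  have hsup : A0 ⊔ Z = A := by
    refine le_antisymm (sup_le hA0A (zpowers_le.2 (hx (by norm_num) (by norm_num)))) ?_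
    have h2m : c.x 2 ∈ A0 ⊔ Z := mem_sup_right (mem_zpowers _)
    have htm : t ∈ A0 ⊔ Z := mem_sup_left (mem_sup_left hHt)
    refine c.S_le fun j h1 h2 => ?_
    rcases (show j = 0 ∨ j = 1 ∨ j = 2 ∨ j = 3 ∨ j = 4 by omega) with rfl | rfl | rfl | rfl | rfl
    · exact mem_sup_left (mem_sup_left hH0)
    · have := mul_mem (mem_sup_left (mem_sup_right hNa) : a ∈ A0 ⊔ Z) h2m
      rwa [ha_def, mul_assoc, c.mul_self hn, mul_one] at this
    · exact h2m
    · have := mul_mem h2m (mem_sup_left (mem_sup_right hNb) : b ∈ A0 ⊔ Z)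
      rwa [hb_def, M] at this
    · rcases ht4 with h | h
      · rw [h]; exact htm
      · rw [Set.mem_singleton_iff.1 h]; exact mul_mem htm h2m
  have hZcard : Nat.card Z = 2 := by
    rw [Nat.card_zpowers]
    exact orderOf_eq_prime (by rw [sq, c.mul_self hn]) (c.ne_one hn 2)
  have hcs := Solvable.card_sup_mul_card_inf hA0Z
  rw [hsup, hcard, hZcard] at hcs
  have hinfpos : 0 < Nat.card (A0 ⊓ Z : Subgroup G) := Nat.card_pos
  have h24 : Nat.card A0 = 24 := by
    have : Nat.card (A0 ⊓ Z : Subgroup G) = 1 := by nlinarith [hA0, hinfpos]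
    rw [this] at hcs
    norm_num at hcs
    omega
  have hbot : A0 ⊓ Z = ⊥ := by
    apply eq_bot_of_card_le
    rw [h24] at hcs
    omega
  have hA0iso : Nonempty (A0 ≃* Equiv.Perm (Fin 4)) := by
    refine Cfsg.Agent.S1012.result h24 fun g hg => ?_
    obtain ⟨hz, hz1, hzq⟩ := hsix g (hA0A g.2) (by rw [Subgroup.orderOf_coe]; exact hg)
      fun z hz z' hz' => Chain.S_commute c hr hz hz' fun p q _ _ _ _ => by omega
    have hzf : ψ ((g : G) ^ 3) = (g : G) ^ 3 := by
      show c.x 0 * c.x 4 * _ * (c.x 0 * c.x 4)⁻¹ = _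
      rw [← hzq.eq, mul_inv_cancel_right]
    rcases hfix _ hz hzf with h | h
    · exact hz1 h
    · have : (g : G) ^ 3 ∈ A0 ⊓ Z := Subgroup.mem_inf.2 ⟨pow_mem g.2 3, h ▸ mem_zpowers _⟩
      rw [hbot, mem_bot] at this
      exact hz1 this
  obtain ⟨e⟩ := hA0iso
  haveI : Fact (Nat.Prime 2) := ⟨Nat.prime_two⟩
  let eZ : Z ≃* Multiplicative (ZMod 2) :=
    mulEquivOfPrimeCardEq hZcard (by simp)
  have hcomm : ∀ (x : A0) (z : Z), Commute (x : G) z := fun x z => by
    obtain ⟨k, hk⟩ := z.2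
    rw [← hk]
    exact (show Commute (x : G) (c.x 2) from
      mem_centralizer_singleton_iff.1 (hAc (hA0A x.2))).zpow_right k
  let F : A0 × Z →* A := (MonoidHom.noncommCoprod A0.subtype Z.subtype hcomm).codRestrict A
    fun p => hsup.le (mul_mem (mem_sup_left p.1.2) (mem_sup_right p.2.2))
  have hF : Function.Bijective F := by
    refine (Nat.bijective_iff_injective_and_card _).2 ⟨?_, by rw [Nat.card_prod, h24, hZcard, hcard]; rfl⟩
    rw [injective_iff_map_eq_one]
    rintro ⟨x, z⟩ h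
    have h' : (x : G) * z = 1 := congrArg Subtype.val h
    have hxz : (x : G) = (z : G)⁻¹ := eq_inv_of_mul_eq_one_left h'
    have hx1 : (x : G) = 1 :=
      mem_bot.1 (hbot ▸ Subgroup.mem_inf.2 ⟨x.2, hxz ▸ inv_mem z.2⟩)
    rw [hx1, one_mul] at h'
    exact Prod.ext (Subtype.ext hx1) (Subtype.ext h')
  exact ⟨(MulEquiv.ofBijective F hF).symm.trans (e.prodCongr eZ)⟩

end CfsgLib.SimsThree
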