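import Cfsg.Agent.SimsThree.Construct
import Cfsg.Agent.SimsThree.Four
import Cfsg.Agent.ThompsonWielandt.Suborbit

/-!
# Primitive groups with a suborbit of length three
-/

set_option autoImplicit false
set_option linter.unusedSectionVars false

namespace CfsgLib.SimsThree

open Subgroup CfsgLib.CharP CfsgLib.ThompsonWielandt MulAction

variable {G : Type*} [Group G] [Finite G] {Ω : Type*} [MulAction G Ω] [Finite Ω] {a b : Ω}

theorem card_inf_three (h : Adj (G := G) a b 3) :
    Nat.card (stabilizer G a) = 3 * Nat.card (stabilizer G a ⊓ stabilizer G b : Subgroup G) := by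
  have h1 := relIndex_mul_card_inf (stabilizer G b) (stabilizer G a)
  rw [← card_orbit_subgroup, h.left, inf_comm] at h1
  exact h1.symm

/-- The two-point stabilizer is a `2`-group. -/
theorem isPGroup_inf (h : Adj (G := G) a b 3) :
    IsPGroup 2 (stabilizer G a ⊓ stabilizer G b : Subgroup G) := by
  have h3 := card_inf_three h
  set A := stabilizer G a
  set B := stabilizer G b
  set C := A ⊓ B
  have hb : Nat.factorial 3 * Nat.factorial (3 - 1) ^ 3 = 3 * 2 ^ 4 := by
    norm_num [Nat.factorial]
  rcases h.card_dvd_or with hd | ⟨h1, h1'⟩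
  · rw [h3, hb] at hd
    obtain ⟨k, -, hk⟩ := (Nat.dvd_prime_pow Nat.prime_two).1
      (Nat.dvd_of_mul_dvd_mul_left (by norm_num) hd)
    exact IsPGroup.of_card hk
  obtain ⟨p, hp, hpA, hpB, -⟩ := h.pair.main h1 h1'
  haveI := Fact.mk hp
  haveI : Fact (Nat.Prime 2) := ⟨Nat.prime_two⟩
  have hWC : second A B ≤ C := (second_le_left _ _).trans (coreIn_le _ _)
  have hW'C : second B A ≤ C :=
    ((second_le_left _ _).trans (coreIn_le _ _)).trans (le_of_eq (inf_comm _ _))
  have hidx : (second A B).relIndex C ∣ 2 ^ 4 := by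
    have h4 := h.relIndex_second
    rw [← relIndex_mul_relIndex _ _ _ hWC inf_le_left, hb] at h4
    rw [show C.relIndex A = 3 from ?_, mul_comm] at h4
    · exact Nat.dvd_of_mul_dvd_mul_left (by norm_num) h4
    · rw [show C = A ⊓ B from rfl, inf_relIndex_left, ← card_orbit_subgroup, h.left]
  have hcardC : Nat.card (second A B) * (second A B).relIndex C = Nat.card C := by
    rw [relIndex, ← Nat.card_congr (subgroupOfEquivOfLe hWC).toEquiv]
    exact card_mul_index _
  by_cases hp2 : p = 2
  · subst hp2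
    obtain ⟨i, hi⟩ := IsPGroup.iff_card.1 hpA
    obtain ⟨j, -, hj⟩ := (Nat.dvd_prime_pow Nat.prime_two).1 hidx
    refine IsPGroup.of_card (n := i + j) ?_
    rw [pow_add, ← hi, ← hj, hcardC]
  exfalso
  have hnA : C ≤ normalizer (second A B : Set G) :=
    inf_le_left.trans (le_normalizer_coreIn _ _)
  haveI : ((second A B).subgroupOf C).Normal := normal_subgroupOf_of_le_normalizer hnA
  have hcop : Nat.Coprime p (2 ^ 4) := ((Nat.coprime_primes hp Nat.prime_two).2 hp2).pow_right 4
  have hle : second B A ≤ second A B := by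
    intro x hx
    have hq : (QuotientGroup.mk' ((second A B).subgroupOf C) ⟨x, hW'C hx⟩) = 1 := by
      obtain ⟨k, hk⟩ := hpB ⟨x, hx⟩
      have h5 : (⟨x, hW'C hx⟩ : C) ^ p ^ k = 1 := Subtype.ext (by simpa using congrArg Subtype.val hk)
      rw [← orderOf_eq_one_iff]
      refine Nat.eq_one_of_dvd_coprimes (hcop.pow_left k) ?_ ?_
      · exact (orderOf_map_dvd _ _).trans (orderOf_dvd_of_pow_eq_one h5)
      · exact (_root_.orderOf_dvd_natCard _).trans hidx
    exact mem_subgroupOf.1 ((QuotientGroup.eq_one_iff _).1 hq)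
  have hle' : second A B ≤ second B A := by
    have hidx' : (second B A).relIndex C ∣ 2 ^ 4 := by
      have h4 := h.symm.relIndex_second
      rw [← relIndex_mul_relIndex _ _ _ hW'C inf_le_right, hb] at h4
      rw [show C.relIndex B = 3 from ?_, mul_comm] at h4
      · exact Nat.dvd_of_mul_dvd_mul_left (by norm_num) h4
      · rw [show C = A ⊓ B from rfl, inf_relIndex_right, ← card_orbit_subgroup, h.right]
    haveI : ((second B A).subgroupOf C).Normal :=
      normal_subgroupOf_of_le_normalizer (inf_le_right.trans (le_normalizer_coreIn _ _))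
    intro x hx
    have hq : (QuotientGroup.mk' ((second B A).subgroupOf C) ⟨x, hWC hx⟩) = 1 := by
      obtain ⟨k, hk⟩ := hpA ⟨x, hx⟩
      have h5 : (⟨x, hWC hx⟩ : C) ^ p ^ k = 1 := Subtype.ext (by simpa using congrArg Subtype.val hk)
      rw [← orderOf_eq_one_iff]
      refine Nat.eq_one_of_dvd_coprimes (hcop.pow_left k) ?_ ?_
      · exact (orderOf_map_dvd _ _).trans (orderOf_dvd_of_pow_eq_one h5)
      · exact (_root_.orderOf_dvd_natCard _).trans hidx'
    exact mem_subgroupOf.1 ((QuotientGroup.eq_one_iff _).1 hq)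
  have heq := le_antisymm hle' hle
  exact h1 (h.pair.eq_bot_of_both (coreIn_le_left _ _) (heq ▸ coreIn_le_left _ _)
    (le_normalizer_coreIn _ _) (heq ▸ le_normalizer_coreIn _ _))

/-- The point stabilizer of a suborbit of length three. -/
theorem exists_length (h : Adj (G := G) a b 3) :
    ∃ n : ℕ, n ≤ 4 ∧ Nat.card (stabilizer G a) = 3 * 2 ^ n ∧
      (n = 0 → Nonempty (stabilizer G a ≃* Multiplicative (ZMod 3))) ∧
      (n = 1 → Nonempty (stabilizer G a ≃* Equiv.Perm (Fin 3))) ∧
      (n = 2 → Nonempty (stabilizer G a ≃* DihedralGroup 6)) ∧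
      (n = 3 → Nonempty (stabilizer G a ≃* Equiv.Perm (Fin 4))) ∧
      (n = 4 → Nonempty (stabilizer G a ≃* Equiv.Perm (Fin 4) × Multiplicative (ZMod 2))) := by
  haveI : Fact (Nat.Prime 2) := ⟨Nat.prime_two⟩
  haveI : Fact (Nat.Prime 3) := ⟨Nat.prime_three⟩
  obtain ⟨n, hn⟩ := IsPGroup.iff_card.1 (isPGroup_inf h)
  have hA : Nat.card (stabilizer G a) = 3 * 2 ^ n := by rw [card_inf_three h, hn]
  rcases Nat.eq_zero_or_pos n with rfl | hpos
  · refine ⟨0, by norm_num, hA, fun _ => ⟨mulEquivOfPrimeCardEq (p := 3) ?_ (by simp)⟩, ?_, ?_, ?_, ?_⟩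
    · simpa using hA
    all_goals exact fun h0 => absurd h0 (by norm_num)
  set A := stabilizer G a
  set B := stabilizer G b
  set C := A ⊓ B with hC
  -- a conjugating element which moves the intersection
  obtain ⟨g, hg⟩ := h.pair.conj
  replace hg : A.map (MulAut.conj g).toMonoidHom = B := hg
  obtain ⟨k, hk, hmove⟩ : ∃ k : G, A.map (MulAut.conj k).toMonoidHom = B ∧
      C.map (MulAut.conj k).toMonoidHom ≠ C := by
    by_cases hgC : C.map (MulAut.conj g).toMonoidHom = C
    · by_contra! hno
      have hB : B ≤ normalizer (C : Set G) := by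
        intro t ht
        refine mem_normalizer_iff_map_conj_eq.2 ?_
        have h1 := hno (t * g) (by rw [← map_conj_inv_map, hg, map_conj_eq_of_mem (le_normalizer ht)])
        rwa [← map_conj_inv_map, hgC] at h1
      have hA' : A ≤ normalizer (C : Set G) := by
        calc A = B.map (MulAut.conj g⁻¹).toMonoidHom := by rw [← hg, map_map_inv]
          _ ≤ (normalizer (C : Set G)).map (MulAut.conj g⁻¹).toMonoidHom := map_mono hB
          _ ≤ normalizer (C : Set G) := by
              refine (le_normalizer_map _).trans (le_of_eq ?_)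
              conv_lhs => rw [← hgC, map_map_inv]
      have := h.pair.eq_bot_of_both inf_le_left inf_le_right hA' hB
      rw [show C = ⊥ from this, card_bot] at hn
      have : 1 < 2 ^ n := Nat.one_lt_pow hpos.ne' (by norm_num)
      omega
    · exact ⟨g, hg, hgC⟩
  have hp1 : path A k 1 = C := by
    show A ⊓ A.map (MulAut.conj (k ^ 1)).toMonoidHom = C
    rw [pow_one, hk]
  have S : Setup A k n := ⟨hpos, hA, by rw [hp1, hn], by rwa [hp1], fun K h1 h2 h3 h4 => by
    rw [hk] at h2 h4
    exact h.pair.eq_bot_of_both h1 h2 h3 h4⟩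
  obtain ⟨c, hcA, hK⟩ := S.exists_chain
  have hn4 := c.length_le hK
  have hcard : Nat.card (c.S 0 (n + 1)) = 3 * 2 ^ n := by rw [hcA, hA]
  have e : c.S 0 (n + 1) ≃* A := MulEquiv.subgroupCongr hcA
  refine ⟨n, hn4, hA, fun h0 => absurd h0 hpos.ne', fun h0 => ?_, fun h0 => ?_, fun h0 => ?_,
    fun h0 => ?_⟩
  · exact (c.type_one hpos hcard h0).map e.symm.trans
  · exact (c.type_two hK hpos hcard h0).map e.symm.trans
  · exact (c.type_three hK hpos hcard h0).map e.symm.trans
  · subst h0
    exact (c.type_four hK hcard).map e.symm.trans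

end CfsgLib.SimsThree
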