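import Cfsg.Agent.SimsThree.Chain
import Mathlib.GroupTheory.IndexNormal
import Mathlib.Tactic.Group
import Mathlib.Tactic.Linarith

/-!
# The chain has length at most four
-/

set_option autoImplicit false

namespace CfsgLib.SimsThree

open Subgroup

variable {G : Type*} [Group G] [Finite G] {n : ℕ} (c : Chain G n)

theorem Chain.inf_S {i : ℤ} {m : ℕ} (h : m + 2 ≤ n) :
    c.S i (m + 1) ⊓ c.S (i + 1) (m + 1) = c.S (i + 1) m := by
  refine (Subgroup.eq_of_le_of_card_ge (le_inf (c.S_mono (by omega) (by omega))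
    (c.S_mono le_rfl (by omega))) ?_).symm
  rw [c.card_S _ (by omega)]
  have hdvd := card_dvd_of_le (inf_le_left : c.S i (m + 1) ⊓ c.S (i + 1) (m + 1) ≤ c.S i (m + 1))
  rw [c.card_S _ (by omega)] at hdvd
  obtain ⟨k, hk, hk2⟩ := (Nat.dvd_prime_pow Nat.prime_two).1 hdvd
  rw [hk2]
  refine Nat.pow_le_pow_right (by norm_num) ?_
  by_contra hlt
  have hk3 : k = m + 1 := by omega
  have e : c.S i (m + 1) ⊓ c.S (i + 1) (m + 1) = c.S i (m + 1) :=
    Subgroup.eq_of_le_of_card_ge inf_le_left (by rw [hk2, hk3, c.card_S _ (by omega)])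
  refine c.S_ne (i := i) (m := m + 1) (by omega) (by omega) (Subgroup.eq_of_le_of_card_ge
    (inf_eq_left.1 e) ?_)
  rw [c.card_S _ (by omega), c.card_S _ (by omega)]

theorem Chain.conj_mem {i i' : ℤ} {m : ℕ} {g g' : G} (h : m + 1 ≤ n) (hi : i ≤ i')
    (hi' : i' + m ≤ i + (m + 1)) (hg : g ∈ c.S i' m) (hg' : g' ∈ c.S i (m + 1)) :
    g' * g * g'⁻¹ ∈ c.S i' m := by
  have hle : c.S i' m ≤ c.S i (m + 1) := c.S_mono hi (by omega)
  have hidx : ((c.S i' m).subgroupOf (c.S i (m + 1))).index = 2 := by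
    have h1 := card_mul_index ((c.S i' m).subgroupOf (c.S i (m + 1)))
    rw [Nat.card_congr (subgroupOfEquivOfLe hle).toEquiv, c.card_S _ (by omega), c.card_S _ h,
      pow_succ] at h1
    exact Nat.eq_of_mul_eq_mul_left (by positivity) h1
  exact mem_subgroupOf.1 ((normal_of_index_eq_two hidx).conj_mem ⟨g, hle hg⟩
    (mem_subgroupOf.2 hg) ⟨g', hg'⟩)

/-- The commutator of two members at distance `k + 1` lies in the group they enclose. -/
theorem Chain.comm_mem {j : ℤ} {k : ℕ} (h : k + 2 ≤ n) :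
    c.x j * c.x (j + (k + 1 : ℕ)) * c.x j * c.x (j + (k + 1 : ℕ)) ∈ c.S (j + 1) k := by
  rw [← c.inf_S h]
  have h0 : c.x j ∈ c.S j (k + 1) := c.mem_S le_rfl (by omega)
  have h1 : c.x (j + (k + 1 : ℕ)) ∈ c.S (j + 1) (k + 1) := c.mem_S (by omega) (by omega)
  have h2 : c.x (j + (k + 1 : ℕ)) ∈ c.S j (k + 2) := c.mem_S (by omega) (by omega)
  have h3 : c.x j ∈ c.S j (k + 2) := c.mem_S le_rfl (by omega)
  refine Subgroup.mem_inf.2 ⟨?_, ?_⟩
  · have := c.conj_mem (i := j) (i' := j) (m := k + 1) h le_rfl (by omega) h0 h2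
    rw [c.inv_eq (by omega)] at this
    simpa [mul_assoc] using mul_mem h0 this
  · have := c.conj_mem (i := j) (i' := j + 1) (m := k + 1) h (by omega) (by omega) h1 h3
    rw [c.inv_eq (by omega)] at this
    simpa [mul_assoc] using mul_mem this h1

variable {r : ℕ} (hr : c.CommUpTo r)

include hr

theorem Chain.S_commute {i j : ℤ} {m k : ℕ} {g g' : G} (hg : g ∈ c.S i m) (hg' : g' ∈ c.S j k)
    (h : ∀ a b, i ≤ a → a < i + m → j ≤ b → b < j + k → (a - b).natAbs < r) : Commute g g' := by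
  have : c.S i m ≤ centralizer {g'} := c.S_le fun a ha1 ha2 =>
    mem_centralizer_singleton_iff.2 (Chain.CommUpTo.commute_S c hr hg'
      fun b hb1 hb2 => by have := h a b ha1 ha2 hb1 hb2; omega).symm.eq
  exact mem_centralizer_singleton_iff.1 (this hg)

theorem Chain.S_sq (hn : 1 ≤ n) {i : ℤ} {m : ℕ} (hm : m ≤ r) {g : G} (hg : g ∈ c.S i m) :
    g * g = 1 := by
  induction hg using closure_induction with
  | mem x hx => obtain ⟨j, -, rfl⟩ := hx; exact c.mul_self hn j
  | one => simp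
  | mul a b ha hb h1 h2 =>
    have hc : Commute a b := Chain.S_commute c hr ha hb fun p q _ _ _ _ => by omega
    rw [mul_assoc, ← mul_assoc b, ← hc.eq, mul_assoc a b, ← mul_assoc, h1, one_mul, h2]
  | inv a _ h1 => rw [← mul_inv_rev, h1, inv_one]

theorem Chain.le_normalizer_S {i : ℤ} {m k : ℕ} (hmk : m + k ≤ r) :
    c.S i m ≤ normalizer (c.S (i + m) k : Set G) := by
  refine le_trans ?_ (centralizer_le_normalizer _)
  intro g hg
  rw [mem_centralizer_iff]
  exact fun y hy => (Chain.S_commute c hr hg hy fun a b _ _ _ _ => by omega).eq.symm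

theorem Chain.disjoint_S {i : ℤ} {m k : ℕ} (hmk : m + k ≤ r) (hn : m + k ≤ n) :
    c.S i m ⊓ c.S (i + m) k = ⊥ := by
  have h := Solvable.card_sup_mul_card_inf (Chain.le_normalizer_S c hr (i := i) hmk)
  rw [c.sup_S, c.card_S _ hn, c.card_S _ (by omega), c.card_S _ (by omega : k ≤ n), ← pow_add] at h
  apply eq_bot_of_card_le
  rw [Nat.mul_eq_left (by positivity)] at h
  exact h.le

omit hr in
theorem Chain.eq_one_or_eq (hn : 1 ≤ n) {i : ℤ} {g : G} (hg : g ∈ c.S i 1) :
    g = 1 ∨ g = c.x i := by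
  have e : c.S i 1 ≤ zpowers (c.x i) := c.S_le fun j h1 h2 => by
    rw [show j = i by omega]; exact mem_zpowers _
  obtain ⟨z, rfl⟩ := e hg
  rcases Int.even_or_odd z with ⟨t, rfl⟩ | ⟨t, rfl⟩
  · left
    show c.x i ^ (t + t) = 1
    rw [← two_mul, zpow_mul, zpow_two, c.mul_self hn, one_zpow]
  · right
    show c.x i ^ (2 * t + 1) = c.x i
    rw [zpow_add, zpow_mul, zpow_two, c.mul_self hn, one_zpow, one_mul, zpow_one]

theorem Chain.split_head (hn : 1 ≤ n) {i : ℤ} {m : ℕ} (hm : m + 1 ≤ r) {g : G}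
    (hg : g ∈ c.S i (m + 1)) : g ∈ c.S (i + 1) m ∨ c.x i * g ∈ c.S (i + 1) m := by
  rw [add_comm m, ← c.sup_S i 1 m, Nat.cast_one] at hg
  obtain ⟨a, ha, b, hb, rfl⟩ := (Solvable.mem_sup_of_le_normalizer
    (by simpa using Chain.le_normalizer_S c hr (i := i) (m := 1) (k := m) (by omega))).1 hg
  rcases c.eq_one_or_eq hn ha with rfl | rfl
  · exact Or.inl (by rwa [one_mul])
  · exact Or.inr (by rwa [← mul_assoc, c.mul_self hn, one_mul])

theorem Chain.split_tail (hn : 1 ≤ n) {i : ℤ} {m : ℕ} (hm : m + 1 ≤ r) {g : G}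
    (hg : g ∈ c.S i (m + 1)) : g ∈ c.S i m ∨ g * c.x (i + m) ∈ c.S i m := by
  rw [← c.sup_S i m 1] at hg
  obtain ⟨a, ha, b, hb, rfl⟩ := (Solvable.mem_sup_of_le_normalizer
    (Chain.le_normalizer_S c hr (i := i) hm)).1 hg
  rcases c.eq_one_or_eq hn hb with rfl | rfl
  · exact Or.inl (by rwa [mul_one])
  · exact Or.inr (by rwa [mul_assoc, c.mul_self hn, mul_one])

theorem Chain.comm_step (hnc : ¬ Commute (c.x 0) (c.x r)) {k : ℕ} (hk : 1 ≤ k) (hkr : k < r)
    (hkn : k + r + 1 ≤ n)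
    (hw : c.x 0 * c.x r * c.x 0 * c.x r ∈ c.S k (r - k)) :
    c.x 0 * c.x r * c.x 0 * c.x r ∈ c.S (k + 1 : ℕ) (r - (k + 1)) := by
  have hn : 1 ≤ n := by omega
  set w := c.x 0 * c.x r * c.x 0 * c.x r
  obtain ⟨m, hm⟩ : ∃ m, r - k = m + 1 := ⟨r - k - 1, by omega⟩
  rw [hm] at hw
  rw [show r - (k + 1) = m by omega, show ((k + 1 : ℕ) : ℤ) = (k : ℤ) + 1 by omega]
  refine (Chain.split_head c hr hn (by omega) hw).resolve_right fun hw2 => hnc ?_
  set y := c.x ((r : ℤ) + k)
  have hy : y⁻¹ = y := c.inv_eq hn _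
  have hyr : Commute y (c.x r) := Chain.CommUpTo.commute c hr (by omega)
  -- `y` moves `x 0` only by something commuting with `x r`
  have hu : c.x 0 * y * c.x 0 * y ∈ c.S 1 (r + k - 1) := by
    have := c.comm_mem (j := 0) (k := r + k - 1) (by omega)
    rwa [zero_add, zero_add, show ((r + k - 1 + 1 : ℕ) : ℤ) = (r : ℤ) + k by omega] at this
  have hur : Commute (c.x 0 * y * c.x 0 * y) (c.x r) :=
    Chain.CommUpTo.commute_S c hr hu fun b h1 h2 => by omega
  have hyw : y * w * y = w := by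
    set u := c.x 0 * y * c.x 0 * y with hudef
    have hz : y * c.x 0 * y⁻¹ = c.x 0 * u := by
      rw [hy, hudef]
      simp only [← mul_assoc, c.mul_self hn, one_mul]
    have hzinv : (y * c.x 0 * y⁻¹)⁻¹ = y * c.x 0 * y⁻¹ := by
      rw [mul_inv_rev, mul_inv_rev, inv_inv, c.inv_eq hn, mul_assoc]
    have hr' : y * c.x r * y⁻¹ = c.x r := by rw [hyr.eq, mul_inv_cancel_right]
    calc y * w * y = y * w * y⁻¹ := by rw [hy]
      _ = (y * c.x 0 * y⁻¹) * (y * c.x r * y⁻¹) * (y * c.x 0 * y⁻¹) * (y * c.x r * y⁻¹) := by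
          simp only [w]; group
      _ = (y * c.x 0 * y⁻¹) * c.x r * (y * c.x 0 * y⁻¹)⁻¹ * c.x r := by rw [hr', hzinv]
      _ = c.x 0 * (u * c.x r) * u⁻¹ * (c.x 0)⁻¹ * c.x r := by rw [hz]; group
      _ = w := by rw [hur.eq, c.inv_eq hn]; simp only [w]; group
  have hyw' : Commute y w := by
    show y * w = w * y
    calc y * w = y * w * (y * y) := by rw [c.mul_self hn, mul_one]
      _ = w * y := by rw [← mul_assoc, hyw]
  have hy2 : Commute y (c.x k * w) :=
    (Chain.CommUpTo.commute_S c hr hw2 fun b h1 h2 => by omega).symm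
  have hyk : Commute y (c.x k) := by
    have := hy2.mul_right hyw'.inv_right
    rwa [mul_inv_cancel_right] at this
  have := (c.commute_add (i := 0) (j := (r : ℤ)) (k : ℤ)).1 (by rw [zero_add]; exact hyk.symm)
  exact this

theorem Chain.comm_mem_top (hr1 : 1 ≤ r) (hrn : r + 1 ≤ n) (hnc : ¬ Commute (c.x 0) (c.x r))
    {k : ℕ} (hk : 1 ≤ k) (hkr : k ≤ r) (hkn : k + r ≤ n) :
    c.x 0 * c.x r * c.x 0 * c.x r ∈ c.S k (r - k) := by
  induction k, hk using Nat.le_induction with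
  | base =>
    obtain ⟨m, rfl⟩ := Nat.exists_eq_add_of_le' hr1
    have := c.comm_mem (j := 0) (k := m) (by omega)
    simpa using this
  | succ k hk ih =>
    exact Chain.comm_step c hr hnc hk (by omega) (by omega) (ih (by omega) (by omega))

omit hr [Finite G] in
theorem Chain.not_commute_iff (hn : 1 ≤ n) {i j : ℤ} :
    Commute (c.x i) (c.x j) ↔ c.x i * c.x j * c.x i * c.x j = 1 := by
  constructor
  · intro h
    rw [h.eq, mul_assoc (c.x j), c.mul_self hn, mul_one, c.mul_self hn]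
  · intro h
    show c.x i * c.x j = c.x j * c.x i
    calc c.x i * c.x j = c.x i * c.x j * c.x i * c.x j * (c.x j * c.x i) := by
          rw [show c.x i * c.x j * c.x i * c.x j * (c.x j * c.x i)
            = c.x i * c.x j * (c.x i * (c.x j * c.x j) * c.x i) by simp only [mul_assoc]]
          rw [c.mul_self hn, mul_one, c.mul_self hn, mul_one]
      _ = c.x j * c.x i := by rw [h, one_mul]

omit hr in
/-- The chain read backwards. -/
def Chain.rev : Chain G n where
  x i := c.x (-i)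
  u := c.u⁻¹
  shift i := by
    have := c.shift (-(i + 1))
    rw [show -(i + 1) + 1 = -i by ring] at this
    rw [← this]; group
  card i m hm := by
    rw [← c.card (-(i + m - 1)) m hm]
    suffices e : closure ((fun i => c.x (-i)) '' Set.Ico i (i + ↑m)) =
        closure (c.x '' Set.Ico (-(i + m - 1)) (-(i + m - 1) + m)) by rw [e]
    apply Subgroup.closure_eq_of_le
    · rintro _ ⟨j, hj, rfl⟩
      exact subset_closure ⟨-j, ⟨by linarith [hj.2], by linarith [hj.1]⟩, rfl⟩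
    · refine (closure_le _).2 ?_
      rintro _ ⟨j, hj, rfl⟩
      exact subset_closure ⟨-j, ⟨by linarith [hj.2], by linarith [hj.1]⟩, by simp⟩

omit hr [Finite G] in
theorem Chain.rev_S (i : ℤ) (m : ℕ) : c.rev.S i m = c.S (-(i + m - 1)) m := by
  refine le_antisymm (c.rev.S_le fun j h1 h2 => c.mem_S (by omega) (by omega))
    (c.S_le fun j h1 h2 => ?_)
  have := c.rev.mem_S (i := i) (m := m) (j := -j) (by omega) (by omega)
  rwa [show c.rev.x (-j) = c.x j by simp [Chain.rev]] at this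

omit hr [Finite G] in
theorem Chain.shift_mem {g : G} {i : ℤ} {m : ℕ} (hg : g ∈ c.S i m) (k : ℕ) :
    c.u ^ k * g * (c.u ^ k)⁻¹ ∈ c.S (i + k) m := by
  induction k with
  | zero => simpa using hg
  | succ k ih =>
    rw [Nat.cast_succ, ← add_assoc, ← c.map_shift]
    refine ⟨_, ih, ?_⟩
    simp [pow_succ', mul_assoc]

omit hr [Finite G] in
theorem Chain.shift_pow (i : ℤ) (k : ℕ) : c.u ^ k * c.x i * (c.u ^ k)⁻¹ = c.x (i + k) := by
  induction k with
  | zero => simp
  | succ k ih =>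
    rw [Nat.cast_succ, ← add_assoc, ← c.shift, ← ih]
    simp [pow_succ', mul_assoc]

omit hr [Finite G] in
theorem Chain.shift_comm (i j : ℤ) (k : ℕ) :
    c.u ^ k * (c.x i * c.x j * c.x i * c.x j) * (c.u ^ k)⁻¹ =
      c.x (i + k) * c.x (j + k) * c.x (i + k) * c.x (j + k) := by
  rw [← c.shift_pow i k, ← c.shift_pow j k]
  simp [mul_assoc]

/-- The commutator at the critical distance lies in both end segments. -/
theorem Chain.comm_mem_both (hr1 : 1 ≤ r) (hrn : r + 1 ≤ n) (hnc : ¬ Commute (c.x 0) (c.x r))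
    {k : ℕ} (hk : 1 ≤ k) (hkr : k ≤ r) (hkn : k + r ≤ n) :
    c.x 0 * c.x r * c.x 0 * c.x r ∈ c.S k (r - k) ∧
      c.x 0 * c.x r * c.x 0 * c.x r ∈ c.S 1 (r - k) := by
  refine ⟨Chain.comm_mem_top c hr hr1 hrn hnc hk hkr hkn, ?_⟩
  have hrev : c.rev.CommUpTo r := fun j hj =>
    Chain.CommUpTo.commute c hr (i := -(0 : ℤ)) (j := -(j : ℤ)) (by omega)
  have hnc' : ¬ Commute (c.rev.x 0) (c.rev.x r) := fun h => hnc (by
    have h' : Commute (c.x (-(0 : ℤ))) (c.x (-(r : ℤ))) := h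
    have := (c.commute_add (i := -(0 : ℤ)) (j := -(r : ℤ)) (r : ℤ)).2 h'
    simp at this
    exact this.symm)
  have h1 := c.shift_mem ((c.rev_S _ _) ▸
    Chain.comm_mem_top c.rev hrev hr1 hrn hnc' hk hkr hkn) r
  rw [show c.rev.x 0 = c.x (-(0 : ℤ)) from rfl, show c.rev.x r = c.x (-(r : ℤ)) from rfl,
    c.shift_comm, neg_zero, zero_add, neg_add_cancel,
    show -((k : ℤ) + ((r - k : ℕ) : ℤ) - 1) + (r : ℤ) = 1 by omega] at h1
  have := inv_mem h1
  simpa [c.inv_eq (by omega : 1 ≤ n), mul_assoc] using this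

end CfsgLib.SimsThree
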