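import Cfsg.Agent.Solvable.Basics
import Mathlib.GroupTheory.PGroup

/-!
# Chains of involutions (Tutte, Sims): the bound on the length
-/

set_option autoImplicit false

namespace CfsgLib.SimsThree

open Subgroup

variable {G : Type*} [Group G]

/-- A sequence of elements permuted as a shift by an element `u`, in which every `m` consecutive
members generate a group of order `2 ^ m` for `m ≤ n`. -/
structure Chain (G : Type*) [Group G] (n : ℕ) where
  x : ℤ → G
  u : G
  shift : ∀ i, u * x i * u⁻¹ = x (i + 1)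
  card : ∀ (i : ℤ) (m : ℕ), m ≤ n → Nat.card (closure (x '' Set.Ico i (i + m))) = 2 ^ m

variable {n : ℕ} (c : Chain G n)

/-- The subgroup generated by `m` consecutive members starting at `i`. -/
def Chain.S (i : ℤ) (m : ℕ) : Subgroup G := closure (c.x '' Set.Ico i (i + m))

theorem Chain.card_S (i : ℤ) {m : ℕ} (h : m ≤ n) : Nat.card (c.S i m) = 2 ^ m := c.card i m h

theorem Chain.mem_S {i : ℤ} {m : ℕ} {j : ℤ} (h1 : i ≤ j) (h2 : j < i + m) : c.x j ∈ c.S i m :=
  subset_closure ⟨j, ⟨h1, h2⟩, rfl⟩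

theorem Chain.S_le {i : ℤ} {m : ℕ} {H : Subgroup G} (h : ∀ j, i ≤ j → j < i + m → c.x j ∈ H) :
    c.S i m ≤ H :=
  (closure_le H).2 (by rintro _ ⟨j, hj, rfl⟩; exact h j hj.1 hj.2)

theorem Chain.S_mono {i i' : ℤ} {m m' : ℕ} (h1 : i ≤ i') (h2 : i' + m' ≤ i + m) :
    c.S i' m' ≤ c.S i m :=
  c.S_le fun _ hj1 hj2 => c.mem_S (h1.trans hj1) (hj2.trans_le h2)

theorem Chain.S_zero (i : ℤ) : c.S i 0 = ⊥ := by simp [Chain.S]

theorem Chain.sup_S (i : ℤ) (m k : ℕ) : c.S i m ⊔ c.S (i + m) k = c.S i (m + k) := by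
  refine le_antisymm (sup_le (c.S_mono le_rfl (by omega)) (c.S_mono (by omega) (by omega)))
    (c.S_le fun j h1 h2 => ?_)
  by_cases h : j < i + m
  · exact mem_sup_left (c.mem_S h1 h)
  · exact mem_sup_right (c.mem_S (by omega) (by omega))

theorem Chain.map_shift (i : ℤ) (m : ℕ) :
    (c.S i m).map (MulAut.conj c.u).toMonoidHom = c.S (i + 1) m := by
  rw [Chain.S, Chain.S, MonoidHom.map_closure, ← Set.image_comp]
  congr 1
  ext g
  simp only [Set.mem_image, Set.mem_Ico, Function.comp_apply, MulEquiv.coe_toMonoidHom,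
    MulAut.conj_apply, c.shift]
  constructor
  · rintro ⟨j, hj, rfl⟩
    exact ⟨j + 1, ⟨by omega, by omega⟩, rfl⟩
  · rintro ⟨j, hj, rfl⟩
    exact ⟨j - 1, ⟨by omega, by omega⟩, by rw [sub_add_cancel]⟩

theorem Chain.commute_shift {i j : ℤ} :
    Commute (c.x (i + 1)) (c.x (j + 1)) ↔ Commute (c.x i) (c.x j) := by
  rw [← c.shift, ← c.shift]
  exact commute_map_iff (f := (MulAut.conj c.u).toMonoidHom) (MulAut.conj c.u).injective
where
  commute_map_iff {f : G →* G} (hf : Function.Injective f) {a b : G} :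
      Commute (f a) (f b) ↔ Commute a b := by
    constructor
    · intro h
      exact hf (by rw [map_mul, map_mul]; exact h.eq)
    · intro h
      exact h.map f

theorem Chain.commute_add {i j : ℤ} (k : ℤ) :
    Commute (c.x (i + k)) (c.x (j + k)) ↔ Commute (c.x i) (c.x j) := by
  induction k using Int.induction_on with
  | zero => simp
  | succ k ih => rw [← ih, ← add_assoc, ← add_assoc, c.commute_shift]
  | pred k ih =>
    rw [← ih]
    conv_rhs => rw [show i + -(k : ℤ) = i + (-(k : ℤ) - 1) + 1 from by ring,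
      show j + -(k : ℤ) = j + (-(k : ℤ) - 1) + 1 from by ring, c.commute_shift]

theorem Chain.mul_self (hn : 1 ≤ n) (i : ℤ) : c.x i * c.x i = 1 := by
  have h := Nat.card_zpowers (c.x i)
  have e : zpowers (c.x i) = c.S i 1 := by
    rw [Chain.S, zpowers_eq_closure]
    congr 1
    ext g
    simp only [Set.mem_singleton_iff, Set.mem_image, Set.mem_Ico]
    constructor
    · rintro rfl; exact ⟨i, ⟨le_rfl, by omega⟩, rfl⟩
    · rintro ⟨j, hj, rfl⟩
      rw [show j = i by omega]
  rw [e, c.card_S i hn, pow_one] at h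
  rw [← sq, show 2 = orderOf (c.x i) from h, pow_orderOf_eq_one]

theorem Chain.inv_eq (hn : 1 ≤ n) (i : ℤ) : (c.x i)⁻¹ = c.x i :=
  inv_eq_of_mul_eq_one_right (c.mul_self hn i)

theorem Chain.notMem_right (i : ℤ) {m : ℕ} (h : m + 1 ≤ n) : c.x i ∉ c.S (i + 1) m := by
  intro hx
  have hle : c.S i (m + 1) ≤ c.S (i + 1) m := c.S_le fun j h1 h2 => by
    rcases eq_or_lt_of_le h1 with rfl | h3
    · exact hx
    · exact c.mem_S (by omega) (by omega)
  haveI : Finite (c.S (i + 1) m) :=
    (Nat.card_pos_iff.1 (by rw [c.card_S _ (by omega)]; positivity)).2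
  have := card_le_of_le hle
  rw [c.card_S i h, c.card_S _ (by omega : m ≤ n), pow_succ] at this
  have : 0 < 2 ^ m := Nat.two_pow_pos m
  omega

/-- The members `x i`, `x j` commute whenever `|i - j| < r`. -/
def Chain.CommUpTo (r : ℕ) : Prop := ∀ k : ℕ, k < r → Commute (c.x 0) (c.x k)

theorem Chain.CommUpTo.commute {r : ℕ} (hr : c.CommUpTo r) {i j : ℤ} (h : (i - j).natAbs < r) :
    Commute (c.x i) (c.x j) := by
  rcases le_total i j with h1 | h1
  · have := (c.commute_add i).2 (hr (i - j).natAbs h)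
    rwa [zero_add, show ((i - j).natAbs : ℤ) + i = j by omega] at this
  · have := (c.commute_add j).2 (hr (i - j).natAbs h)
    rw [zero_add, show ((i - j).natAbs : ℤ) + j = i by omega] at this
    exact this.symm

theorem Chain.CommUpTo.commute_S {r : ℕ} (hr : c.CommUpTo r) {i j : ℤ} {m : ℕ} {g : G}
    (hg : g ∈ c.S j m) (h : ∀ k, j ≤ k → k < j + m → (k - i).natAbs < r) :
    Commute g (c.x i) := by
  have : c.S j m ≤ centralizer {c.x i} := c.S_le fun k h1 h2 =>
    mem_centralizer_singleton_iff.2 (Chain.CommUpTo.commute c hr (h k h1 h2))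
  exact mem_centralizer_singleton_iff.1 (this hg)

variable [Finite G]

theorem Chain.S_ne {i : ℤ} {m : ℕ} (hm : 1 ≤ m) (h : m + 1 ≤ n) : c.S i m ≠ c.S (i + 1) m :=
  fun he => c.notMem_right i h (he ▸ c.mem_S le_rfl (by omega))

end CfsgLib.SimsThree
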