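import Cfsg.Agent.SimsThree.Length
import Cfsg.Agent.Suborbit.Dihedral
import Cfsg.Agent.S1012

/-!
# Groups generated by chains of length at most four
-/

set_option autoImplicit false
set_option linter.unusedSectionVars false

namespace CfsgLib.SimsThree

open Subgroup

/-- A group of order `6` generated by two involutions. -/
theorem six_gen {Q : Type*} [Group Q] [Finite Q] (hQ : Nat.card Q = 6) {s t : Q}
    (hs : s * s = 1) (ht : t * t = 1) (hs1 : s ≠ 1) (hgen : closure {s, t} = ⊤) :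
    orderOf (s * t) = 3 ∧ (∀ y : Q, y ^ 3 = 1 → y ∈ zpowers (s * t)) ∧
      ∀ z y : Q, z * z = 1 → y ^ 3 = 1 → y ≠ 1 → Commute z y → z = 1 := by
  haveI : Fact (Nat.Prime 2) := ⟨Nat.prime_two⟩
  haveI : Fact (Nat.Prime 3) := ⟨Nat.prime_three⟩
  have hnc : ¬ Commute s t := by
    intro hc
    have hcl : (closure {s, t} : Subgroup Q) ≤ centralizer {s} ⊓ centralizer {t} := by
      rw [closure_le]
      rintro g (rfl | rfl)
      · exact ⟨mem_centralizer_singleton_iff.2 rfl, mem_centralizer_singleton_iff.2 hc⟩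
      · exact ⟨mem_centralizer_singleton_iff.2 hc.symm, mem_centralizer_singleton_iff.2 rfl⟩
    rw [hgen] at hcl
    have hsq : ∀ g : Q, g * g = 1 := by
      intro g
      have hg : g ∈ closure {s, t} := hgen ▸ mem_top g
      induction hg using closure_induction with
      | mem x hx =>
        rcases hx with rfl | rfl
        · exact hs
        · exact ht
      | one => exact one_mul 1
      | mul a b ha hb h1 h2 =>
        have hab : Commute a b := by
          have hcl2 : (closure {s, t} : Subgroup Q) ≤ centralizer {b} := by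
            rw [closure_le]
            rintro g (rfl | rfl)
            · exact mem_centralizer_singleton_iff.2
                (mem_centralizer_singleton_iff.1 (hcl (mem_top b)).1).symm
            · exact mem_centralizer_singleton_iff.2
                (mem_centralizer_singleton_iff.1 (hcl (mem_top b)).2).symm
          exact mem_centralizer_singleton_iff.1 (hcl2 ha)
        rw [mul_assoc, ← mul_assoc b, ← hab.eq, mul_assoc a b, ← mul_assoc, h1, one_mul, h2]
      | inv a _ h1 => rw [← mul_inv_rev, h1, inv_one]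
    obtain ⟨g, hg⟩ := exists_prime_orderOf_dvd_card' (G := Q) 3 (by rw [hQ]; norm_num)
    have := orderOf_dvd_of_pow_eq_one (show g ^ 2 = 1 by rw [sq]; exact hsq g)
    rw [hg] at this
    norm_num at this
  have hncyc : ¬ IsCyclic Q := fun h => hnc (IsCyclic.isMulCommutative.is_comm.comm s t)
  have hord : orderOf (s * t) = 3 := by
    have hd : orderOf (s * t) ∈ Nat.divisors 6 :=
      Nat.mem_divisors.2 ⟨hQ ▸ orderOf_dvd_natCard (s * t), by norm_num⟩
    rw [show Nat.divisors 6 = {1, 2, 3, 6} from rfl] at hd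
    simp only [Finset.mem_insert, Finset.mem_singleton] at hd
    have hsi : s⁻¹ = s := inv_eq_of_mul_eq_one_right hs
    have hti : t⁻¹ = t := inv_eq_of_mul_eq_one_right ht
    rcases hd with h | h | h | h
    · exfalso
      rw [orderOf_eq_one_iff, mul_eq_one_iff_eq_inv, hti] at h
      exact hnc (h ▸ Commute.refl s)
    · exfalso
      have h2 : s * t * (s * t) = 1 := by rw [← sq, ← h, pow_orderOf_eq_one]
      apply hnc
      show s * t = t * s
      rw [eq_inv_of_mul_eq_one_left h2, mul_inv_rev, hsi, hti]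
    · exact h
    · exact absurd (isCyclic_of_orderOf_eq_card _ (h.trans hQ.symm)) hncyc
  have hidx : (zpowers (s * t)).index = 2 := by
    have := card_mul_index (zpowers (s * t))
    rw [Nat.card_zpowers, hord, hQ] at this
    omega
  refine ⟨hord, fun y hy => ?_, fun z y hz hy hy1 hc => ?_⟩
  · have := mul_self_mem_of_index_two hidx (y ^ 2)
    rwa [← pow_add, show 2 + 2 = 3 + 1 from rfl, pow_succ, hy, one_mul] at this
  · by_contra hz1
    have hoz : orderOf z = 2 := orderOf_eq_prime (by rw [sq, hz]) hz1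
    have hoy : orderOf y = 3 := orderOf_eq_prime hy hy1
    exact hncyc (isCyclic_of_orderOf_eq_card (z * y) (by
      rw [hc.orderOf_mul_eq_mul_orderOf_of_coprime (by rw [hoz, hoy]; norm_num), hoz, hoy, hQ]))

/-- A corefree subgroup of index `k` in a group of order `k!` gives the symmetric group. -/
theorem equiv_perm_of_corefree {H : Type*} [Group H] [Finite H] (K : Subgroup H)
    (hK : K.normalCore = ⊥) {k : ℕ} (hk : K.index = k) (hH : Nat.card H = k.factorial) :
    Nonempty (H ≃* Equiv.Perm (Fin k)) := by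
  let e : H ⧸ K ≃ Fin k := Finite.equivFinOfCardEq hk
  let f : H →* Equiv.Perm (Fin k) :=
    e.permCongrHom.toMonoidHom.comp (MulAction.toPermHom H (H ⧸ K))
  refine ⟨MulEquiv.ofBijective f ((Nat.bijective_iff_injective_and_card _).2 ⟨?_, ?_⟩)⟩
  · refine e.permCongrHom.injective.comp ((MonoidHom.ker_eq_bot_iff _).1 ?_)
    rw [← normalCore_eq_ker, hK]
  · rw [hH, Nat.card_perm, Nat.card_fin]

variable {G : Type*} [Group G] [Finite G] {n : ℕ} (c : Chain G n)
  (hK : c.NoCommon) (hn : 1 ≤ n) (hcard : Nat.card (c.S 0 (n + 1)) = 3 * 2 ^ n)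

include hn in
theorem Chain.conj_mem_core {j : ℤ} (h1 : 0 ≤ j) (h2 : j ≤ n) {g : G} (hg : g ∈ c.S 1 (n - 1)) :
    c.x j * g * c.x j ∈ c.S 1 (n - 1) := by
  by_cases h : j = n
  · have := c.conj_mem (i := 1) (i' := 1) (m := n - 1) (by omega) le_rfl (by omega) hg
      (c.mem_S (j := j) (by omega) (by omega))
    rwa [c.inv_eq hn] at this
  · have := c.conj_mem (i := 0) (i' := 1) (m := n - 1) (by omega) (by omega) (by omega) hg
      (c.mem_S (j := j) (by omega) (by omega))
    rwa [c.inv_eq hn] at this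

include hn hcard

/-- The facts about the group of order `6` on top of the core. -/
theorem Chain.quot_facts :
    ((c.x 0 * c.x n) ^ 3 ∈ c.S 1 (n - 1)) ∧ (c.x 0 * c.x n ∉ c.S 1 (n - 1)) ∧
    ((c.x 0 * c.x n) ^ 2 ∉ c.S 1 (n - 1)) ∧
    ∀ g ∈ c.S 0 (n + 1), orderOf g = 6 →
      (∀ z ∈ c.S 1 (n - 1), ∀ z' ∈ c.S 1 (n - 1), Commute z z') →
      g ^ 3 ∈ c.S 1 (n - 1) ∧ g ^ 3 ≠ 1 ∧ Commute (g ^ 3) (c.x 0 * c.x n) := by
  set A := c.S 0 (n + 1) with hA
  set X := c.S 1 (n - 1) with hX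
  have hXA : X ≤ A := c.S_mono (by omega) (by omega)
  have hAN : A ≤ normalizer (X : Set G) := by
    refine c.S_le fun j h1 h2 => ?_
    rw [mem_normalizer_iff]
    intro g
    rw [c.inv_eq hn]
    refine ⟨fun hg => c.conj_mem_core hn h1 (by omega) hg, fun hg => ?_⟩
    have := c.conj_mem_core hn h1 (by omega : j ≤ (n : ℤ)) hg
    simp only [← mul_assoc, c.mul_self hn, one_mul] at this
    rwa [mul_assoc, c.mul_self hn, mul_one] at this
  haveI : (X.subgroupOf A).Normal := normal_subgroupOf_of_le_normalizer hAN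
  let π := QuotientGroup.mk' (X.subgroupOf A)
  have hQ : Nat.card (A ⧸ X.subgroupOf A) = 6 := by
    have h1 := card_mul_index (X.subgroupOf A)
    rw [Nat.card_congr (subgroupOfEquivOfLe hXA).toEquiv, hX, c.card_S _ (by omega), hA, hcard] at h1
    obtain ⟨m, rfl⟩ := Nat.exists_eq_add_of_le' hn
    rw [Nat.add_sub_cancel, pow_succ, show 3 * (2 ^ m * 2) = 2 ^ m * 6 by ring] at h1
    exact Nat.eq_of_mul_eq_mul_left (Nat.two_pow_pos m) h1
  have hm0 : c.x 0 ∈ A := c.mem_S le_rfl (by omega)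
  have hmn : c.x n ∈ A := c.mem_S (by omega) (by omega)
  set s := π ⟨c.x 0, hm0⟩ with hsdef
  set t := π ⟨c.x n, hmn⟩ with htdef
  have hs : s * s = 1 := by
    rw [hsdef, ← map_mul, show (⟨c.x 0, hm0⟩ * ⟨c.x 0, hm0⟩ : A) = 1 from
      Subtype.ext (c.mul_self hn 0), map_one]
  have ht : t * t = 1 := by
    rw [htdef, ← map_mul, show (⟨c.x n, hmn⟩ * ⟨c.x n, hmn⟩ : A) = 1 from
      Subtype.ext (c.mul_self hn n), map_one]
  have hmem : ∀ g : A, π g = 1 ↔ (g : G) ∈ X := fun g => by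
    rw [QuotientGroup.mk'_apply, QuotientGroup.eq_one_iff, mem_subgroupOf]
  have hs1 : s ≠ 1 := fun h => by
    have := (hmem _).1 h
    exact c.notMem_right 0 (m := n - 1) (by omega) this
  have hgen : closure {s, t} = ⊤ := by
    rw [eq_top_iff]
    intro q _
    obtain ⟨⟨g, hg⟩, rfl⟩ := QuotientGroup.mk'_surjective _ q
    have hle : A ≤ ((closure {s, t}).comap π).map A.subtype := by
      refine c.S_le fun j h1 h2 => ⟨⟨c.x j, c.mem_S h1 h2⟩, ?_, rfl⟩
      show π _ ∈ closure {s, t}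
      by_cases h3 : j = 0
      · subst h3; exact subset_closure (Or.inl rfl)
      by_cases h4 : j = n
      · subst h4; exact subset_closure (Or.inr rfl)
      rw [(hmem _).2 (c.mem_S (by omega) (by omega))]
      exact one_mem _
    obtain ⟨g', hg', e⟩ := hle hg
    rw [show (⟨g, hg⟩ : A) = g' from Subtype.ext e.symm]
    exact hg'
  obtain ⟨hord, hpow, hcz⟩ := six_gen hQ hs ht hs1 hgen
  have hst : s * t = π ⟨c.x 0 * c.x n, mul_mem hm0 hmn⟩ := by rw [hsdef, htdef, ← map_mul]; rfl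
  have hk : ∀ k : ℕ, (c.x 0 * c.x n) ^ k ∈ X ↔ 3 ∣ k := by
    intro k
    rw [← hord, orderOf_dvd_iff_pow_eq_one, hst, ← map_pow, hmem]
    rfl
  refine ⟨(hk 3).2 dvd_rfl, fun h => ?_, fun h => ?_, fun g hg ho hab => ?_⟩
  · rw [← pow_one (c.x 0 * c.x n)] at h
    have := (hk 1).1 h
    norm_num at this
  · have := (hk 2).1 h
    norm_num at this
  set z := g ^ 3 with hz
  set y := g ^ 2 with hy
  have hz1 : z ≠ 1 := fun h => by
    have := orderOf_dvd_of_pow_eq_one h
    rw [ho] at this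
    norm_num at this
  have hy3 : y ^ 3 = 1 := by rw [hy, ← pow_mul, show 2 * 3 = 6 from rfl, ← ho, pow_orderOf_eq_one]
  have hzz : z * z = 1 := by rw [hz, ← pow_add, show 3 + 3 = 6 from rfl, ← ho, pow_orderOf_eq_one]
  have hy1 : y ∉ X := fun h => by
    have h1 : orderOf y = 3 := by
      rw [hy, orderOf_pow_of_dvd (by norm_num) (by rw [ho]; norm_num), ho]
    have h2 := orderOf_dvd_natCard (⟨y, h⟩ : X)
    rw [Subgroup.orderOf_mk, h1, c.card_S _ (by omega)] at h2
    have := (Nat.prime_dvd_prime_iff_eq Nat.prime_three Nat.prime_two).1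
      (Nat.prime_three.dvd_of_dvd_pow h2)
    norm_num at this
  set zA : A := ⟨g, hg⟩ ^ 3
  set yA : A := ⟨g, hg⟩ ^ 2
  have hzX : z ∈ X := by
    refine (hmem zA).1 (hcz (π zA) (π yA) ?_ ?_ ?_ ?_)
    · rw [← map_mul, show zA * zA = 1 from Subtype.ext hzz, map_one]
    · rw [← map_pow, show yA ^ 3 = 1 from Subtype.ext hy3, map_one]
    · exact fun h => hy1 ((hmem yA).1 h)
    · exact ((Commute.refl _).pow_pow 3 2).map π
  refine ⟨hzX, hz1, ?_⟩
  obtain ⟨k, hk'⟩ := hpow (π yA) (by rw [← map_pow, show yA ^ 3 = 1 from Subtype.ext hy3, map_one])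
  have hk'' : (s * t) ^ (k % 3).toNat = π yA := by
    rw [← zpow_natCast, Int.toNat_of_nonneg (Int.emod_nonneg _ (by norm_num)),
      show (3 : ℤ) = (orderOf (s * t) : ℕ) by rw [hord]; rfl, zpow_mod_orderOf]
    exact hk'
  set e := (k % 3).toNat
  have he3 : e < 3 := by omega
  rw [hst, ← map_pow] at hk''
  have hu : ((c.x 0 * c.x n) ^ e)⁻¹ * y ∈ X := by
    have := (QuotientGroup.eq).1 hk''
    exact mem_subgroupOf.1 this
  have hzy : Commute z y := (Commute.refl g).pow_pow 3 2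
  have hze : Commute z ((c.x 0 * c.x n) ^ e) := by
    have h1 := (hab z hzX _ hu).inv_right
    have h2 := hzy.mul_right h1
    rwa [mul_inv_rev, inv_inv, ← mul_assoc, mul_inv_cancel, one_mul] at h2
  have hz3 : Commute z ((c.x 0 * c.x n) ^ 3) := hab z hzX _ ((hk 3).2 dvd_rfl)
  rcases (show e = 0 ∨ e = 1 ∨ e = 2 by omega) with he | he | he
  · exfalso
    rw [he, pow_zero, inv_one, one_mul] at hu
    exact hy1 hu
  · rwa [he, pow_one] at hze
  · have := (he ▸ hze).inv_right.mul_right hz3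
    rwa [pow_succ (c.x 0 * c.x n) 2, inv_mul_cancel_left] at this

/-- Length one. -/
theorem Chain.type_one (h1 : n = 1) :
    Nonempty (c.S 0 (n + 1) ≃* Equiv.Perm (Fin 3)) := by
  obtain ⟨-, hq, hq2, -⟩ := c.quot_facts hn hcard
  subst h1
  set A := c.S 0 (1 + 1)
  have hm0 : c.x 0 ∈ A := c.mem_S le_rfl (by norm_num)
  have hm1 : c.x 1 ∈ A := c.mem_S (by norm_num) (by norm_num)
  refine equiv_perm_of_corefree (zpowers (⟨c.x 0, hm0⟩ : A)) ?_ ?_ (by rw [hcard]; rfl)
  · have hc2 : Nat.card (zpowers (⟨c.x 0, hm0⟩ : A)) = 2 := by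
      rw [Nat.card_zpowers]
      exact orderOf_eq_prime (p := 2) (Subtype.ext (by simpa [sq] using c.mul_self hn 0))
        (fun h => c.ne_one hn 0 (congrArg Subtype.val h))
    rcases (Nat.dvd_prime Nat.prime_two).1 (hc2 ▸ card_dvd_of_le (normalCore_le _)) with h | h
    · exact Subgroup.card_eq_one.1 h
    · exfalso
      have he := Subgroup.eq_of_le_of_card_ge (normalCore_le (zpowers (⟨c.x 0, hm0⟩ : A)))
        (by rw [h, hc2])
      have hn' : (zpowers (⟨c.x 0, hm0⟩ : A)).Normal := he ▸ normalCore_normal _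
      have h2 := hn'.conj_mem _ (mem_zpowers _) ⟨c.x 1, hm1⟩
      obtain ⟨z, hz⟩ := h2
      have hz' : c.x 0 ^ z = c.x 1 * c.x 0 * c.x 1 := by
        have := congrArg Subtype.val hz
        simpa [c.inv_eq hn] using this
      have hmem : c.x 1 * c.x 0 * c.x 1 ∈ c.S 0 1 := hz' ▸ zpow_mem (c.mem_S le_rfl (by norm_num)) z
      apply hq2
      have hcomm : c.x 1 * c.x 0 * c.x 1 = c.x 0 := by
        refine (c.eq_one_or_eq hn hmem).resolve_left fun e => c.ne_one hn 0 ?_
        have : c.x 1 * (c.x 1 * c.x 0 * c.x 1) * c.x 1 = 1 := by rw [e, mul_one, c.mul_self hn]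
        rwa [← mul_assoc, ← mul_assoc, c.mul_self hn, one_mul, mul_assoc, c.mul_self hn,
          mul_one] at this
      have : (c.x 0 * c.x ((1 : ℕ) : ℤ)) ^ 2 = 1 := by
        rw [sq, Nat.cast_one, mul_assoc, ← mul_assoc (c.x 1), hcomm, c.mul_self hn]
      rw [this]
      exact one_mem _
  · have h1 := card_mul_index (zpowers (⟨c.x 0, hm0⟩ : A))
    rw [Nat.card_zpowers, hcard, orderOf_eq_prime (p := 2) (Subtype.ext (by simpa [sq] using c.mul_self hn 0))
        (fun h => c.ne_one hn 0 (congrArg Subtype.val h))] at h1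
    omega

include hK

/-- Length two. -/
theorem Chain.type_two (h2 : n = 2) : Nonempty (c.S 0 (n + 1) ≃* DihedralGroup 6) := by
  obtain ⟨hq3, hq1, hq2, -⟩ := c.quot_facts hn hcard
  obtain ⟨r, hr, hrn, hr1, hnc⟩ := c.exists_critical
  obtain rfl : r = 2 := by
    by_contra hne
    have := c.three_mul_ge hr (by omega) (by omega) (hnc (by omega))
    omega
  subst h2
  have hc : ∀ j : ℤ, 0 ≤ j → j ≤ 2 → Commute (c.x j) (c.x 1) :=
    fun j h1 h2 => Chain.CommUpTo.commute c hr (by omega)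
  set A := c.S 0 (2 + 1)
  have hq' : (c.x 0 * c.x 2) ^ 3 = 1 ∨ (c.x 0 * c.x 2) ^ 3 = c.x 1 := by
    have := hq3
    simpa using c.eq_one_or_eq hn (show (c.x 0 * c.x ((2 : ℕ) : ℤ)) ^ 3 ∈ c.S 1 1 from this)
  -- an element of order six inverted by `x 0`
  have hex : ∃ q, q ∈ A ∧ c.x 0 * q * c.x 0 = q⁻¹ ∧ q ^ 3 = c.x 1 ∧ q ^ 2 ≠ 1 := by
    have hm : c.x 0 * c.x 2 ∈ A :=
      mul_mem (c.mem_S le_rfl (by norm_num)) (c.mem_S (by norm_num) (by norm_num))
    have hinv : c.x 0 * (c.x 0 * c.x 2) * c.x 0 = (c.x 0 * c.x 2)⁻¹ := by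
      rw [← mul_assoc, c.mul_self hn, one_mul, mul_inv_rev, c.inv_eq hn, c.inv_eq hn]
    have hne2 : (c.x 0 * c.x 2) ^ 2 ≠ 1 := fun h => hq2 (by
      rw [show ((2 : ℕ) : ℤ) = 2 from rfl, h]; exact one_mem _)
    rcases hq' with h | h
    · have hcq : Commute (c.x 1) (c.x 0 * c.x 2) :=
        (hc 0 le_rfl (by norm_num)).symm.mul_right (hc 2 (by norm_num) le_rfl).symm
      refine ⟨c.x 1 * (c.x 0 * c.x 2), mul_mem (c.mem_S (by norm_num) (by norm_num)) hm, ?_, ?_, ?_⟩
      · rw [mul_inv_rev, c.inv_eq hn, ← hcq.inv_right.eq, ← hinv]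
        simp only [← mul_assoc]
        rw [(hc 0 le_rfl (by norm_num)).eq]
      · rw [hcq.mul_pow, h, mul_one, pow_succ, sq, c.mul_self hn, one_mul]
      · rw [hcq.mul_pow, sq, c.mul_self hn, one_mul]
        exact hne2
    · exact ⟨_, hm, hinv, h, hne2⟩
  obtain ⟨q, hqA, hinv, hq3', hq2'⟩ := hex
  have ho : orderOf q = 6 := by
    have h6 : orderOf q ∈ Nat.divisors 6 := by
      refine Nat.mem_divisors.2 ⟨orderOf_dvd_of_pow_eq_one ?_, by norm_num⟩
      rw [show 6 = 3 * 2 from rfl, pow_mul, hq3', sq, c.mul_self hn]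
    rw [show Nat.divisors 6 = {1, 2, 3, 6} from rfl] at h6
    simp only [Finset.mem_insert, Finset.mem_singleton] at h6
    rcases h6 with h | h | h | h
    · exact absurd (by rw [orderOf_eq_one_iff.1 h, one_pow]) hq2'
    · exact absurd (h ▸ pow_orderOf_eq_one q) hq2'
    · exact absurd ((h ▸ pow_orderOf_eq_one q).symm.trans hq3').symm (c.ne_one hn 1)
    · exact h
  refine Suborbit.dihedral_of_inverts 6 (⟨q, hqA⟩ : A) ⟨c.x 0, c.mem_S le_rfl (by norm_num)⟩
    (by rw [hcard]; rfl) (by rw [Subgroup.orderOf_mk]; exact ho) (Subtype.ext (c.mul_self hn 0))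
    (fun hmem => ?_) (Subtype.ext hinv)
  obtain ⟨z, hz⟩ := hmem
  have hz' : q ^ z = c.x 0 := congrArg Subtype.val hz
  have hc0 : Commute (c.x 0) q := hz' ▸ (Commute.refl q).zpow_left z
  rw [hc0.eq, mul_assoc, c.mul_self hn, mul_one] at hinv
  exact hq2' (by rw [sq]; exact mul_eq_one_iff_eq_inv.2 hinv)

/-- Length three. -/
theorem Chain.type_three (h3 : n = 3) : Nonempty (c.S 0 (n + 1) ≃* Equiv.Perm (Fin 4)) := by
  obtain ⟨-, -, -, hsix⟩ := c.quot_facts hn hcard
  obtain ⟨r, hr, hrn, hr1, hnc⟩ := c.exists_critical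
  have h2r := c.two_mul_le hK hr hrn
  obtain rfl : r = 2 := by
    have := c.three_mul_ge hr (by omega) (by omega) (hnc (by omega))
    omega
  subst h3
  refine Cfsg.Agent.S1012.result (by rw [hcard]; rfl) fun g hg => ?_
  have hab : ∀ z ∈ c.S 1 (3 - 1), ∀ z' ∈ c.S 1 (3 - 1), Commute z z' := fun z hz z' hz' =>
    Chain.S_commute c hr hz hz' fun p q _ _ _ _ => by omega
  obtain ⟨hz, hz1, hzq⟩ := hsix g g.2 (by rw [Subgroup.orderOf_coe]; exact hg) hab
  set z := (g : G) ^ 3
  have hw : c.x 0 * c.x 2 * c.x 0 * c.x 2 = c.x 1 := by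
    have h1 := c.comm_mem (j := 0) (k := 1) (by norm_num)
    norm_num at h1
    refine (c.eq_one_or_eq hn h1).resolve_left ?_
    exact c.comm_ne_one hn (by exact_mod_cast hnc (by omega))
  have hw' : c.x 1 * c.x 3 * c.x 1 * c.x 3 = c.x 2 := by
    have := c.shift_comm 0 2 1
    rw [hw, c.shift_pow] at this
    norm_num at this
    exact this.symm
  have e0 : c.x 0 * c.x 2 * c.x 0 = c.x 1 * c.x 2 :=
    calc _ = c.x 0 * c.x 2 * c.x 0 * c.x 2 * c.x 2 := by simp [mul_assoc, c.mul_self hn]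
      _ = _ := by rw [hw]
  have e3 : c.x 3 * c.x 1 * c.x 3 = c.x 1 * c.x 2 :=
    calc _ = c.x 1 * (c.x 1 * c.x 3 * c.x 1 * c.x 3) := by
          simp only [← mul_assoc, c.mul_self hn, one_mul]
      _ = _ := by rw [hw']
  have h01 : c.x 0 * c.x 1 * c.x 0 = c.x 1 := by
    rw [(Chain.CommUpTo.commute c hr (i := 0) (j := 1) (by omega)).eq, mul_assoc, c.mul_self hn,
      mul_one]
  have h32 : c.x 3 * c.x 2 * c.x 3 = c.x 2 := by
    rw [(Chain.CommUpTo.commute c hr (i := 3) (j := 2) (by omega)).eq, mul_assoc, c.mul_self hn,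
      mul_one]
  have hfix : c.x 0 * (c.x 3 * z * c.x 3) * c.x 0 = z := by
    have h := hzq.eq
    norm_num at h
    calc c.x 0 * (c.x 3 * z * c.x 3) * c.x 0
        = c.x 0 * c.x 3 * z * (c.x 3 * c.x 0) := by simp only [mul_assoc]
      _ = z * (c.x 0 * c.x 3) * (c.x 3 * c.x 0) := by rw [h]
      _ = z := by simp [mul_assoc, ← mul_assoc (c.x 3) (c.x 3), c.mul_self hn]
  have h12 : c.x 1 ≠ c.x 2 := fun e =>
    c.notMem_right 1 (m := 1) (by norm_num) (by rw [e]; exact c.mem_S (by norm_num) (by norm_num))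
  have hz' := Chain.split_head c hr hn (i := 1) (m := 1) le_rfl hz
  have hc12 := (Chain.CommUpTo.commute c hr (i := 1) (j := 2) (by omega)).eq
  have q1 : c.x 0 * (c.x 3 * c.x 1 * c.x 3) * c.x 0 = c.x 2 := by
    rw [e3, show c.x 0 * (c.x 1 * c.x 2) * c.x 0
      = (c.x 0 * c.x 1 * c.x 0) * (c.x 0 * c.x 2 * c.x 0) by
        simp [mul_assoc, ← mul_assoc (c.x 0) (c.x 0), c.mul_self hn], h01, e0, ← mul_assoc,
      c.mul_self hn, one_mul]
  rcases hz' with h | h <;> norm_num at h <;> rcases c.eq_one_or_eq hn h with h | h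
  · exact hz1 h
  · rw [h, h32, e0, mul_eq_right] at hfix
    exact c.ne_one hn 1 hfix
  · have hz2 : z = c.x 1 := by
      rw [← c.inv_eq hn 1]; exact eq_inv_of_mul_eq_one_right h
    rw [hz2, q1] at hfix
    exact h12 hfix.symm
  · have hz2 : z = c.x 1 * c.x 2 := by rw [← h, ← mul_assoc, c.mul_self hn, one_mul]
    rw [hz2, show c.x 3 * (c.x 1 * c.x 2) * c.x 3
      = (c.x 3 * c.x 1 * c.x 3) * (c.x 3 * c.x 2 * c.x 3) by
        simp [mul_assoc, ← mul_assoc (c.x 3) (c.x 3), c.mul_self hn], e3, h32] at hfix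
    simp only [mul_assoc, ← mul_assoc (c.x 2) (c.x 2), c.mul_self hn, one_mul] at hfix
    rw [← mul_assoc, h01, left_eq_mul] at hfix
    exact c.ne_one hn 2 hfix

end CfsgLib.SimsThree
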