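import Cfsg.Agent.SimsThree.Length
import Cfsg.Agent.ThompsonWielandt.Main

/-!
# The chain attached to two point stabilizers meeting in a `2`-group of index `3`
-/

set_option autoImplicit false
set_option linter.unusedSectionVars false

namespace CfsgLib.SimsThree

open Subgroup CfsgLib.ThompsonWielandt

variable {G : Type*} [Group G] [Finite G]

/-- Between a subgroup and an overgroup of prime index there is nothing. -/
theorem eq_top_of_prime_index {K M L : Subgroup G} {p : ℕ} (hp : p.Prime) (hKM : K ≤ M)
    (hML : M ≤ L) (hne : M ≠ K) (hcard : Nat.card L = p * Nat.card K) : M = L := by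
  refine Subgroup.eq_of_le_of_card_ge hML ?_
  obtain ⟨q, hq⟩ := card_dvd_of_le hKM
  have h1 := card_dvd_of_le hML
  rw [hcard, hq, mul_comm p] at h1
  rcases (Nat.dvd_prime hp).1 ((Nat.mul_dvd_mul_iff_left Nat.card_pos).1 h1) with rfl | rfl
  · exact absurd (Subgroup.eq_of_le_of_card_ge hKM (by rw [hq, mul_one])).symm hne
  · rw [hcard, hq, mul_comm]

/-- The descending intersections along a path. -/
def path (A : Subgroup G) (h : G) : ℕ → Subgroup G
  | 0 => A
  | k + 1 => path A h k ⊓ A.map (MulAut.conj (h ^ (k + 1))).toMonoidHom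

theorem path_antitone (A : Subgroup G) (h : G) {j k : ℕ} (hjk : j ≤ k) :
    path A h k ≤ path A h j := by
  induction hjk with
  | refl => exact le_rfl
  | step _ ih => exact inf_le_left.trans ih

theorem path_succ (A : Subgroup G) (h : G) (k : ℕ) :
    path A h (k + 1) = A ⊓ (path A h k).map (MulAut.conj h).toMonoidHom := by
  induction k with
  | zero => simp [path]
  | succ k ih =>
    show path A h (k + 1) ⊓ _ = _
    conv_rhs => rw [path, Subgroup.map_inf _ _ _ (MulAut.conj h).injective, map_conj_inv_map,
      ← pow_succ', ← inf_assoc]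
    rw [ih]

theorem map_map_inv (K : Subgroup G) (h : G) :
    (K.map (MulAut.conj h).toMonoidHom).map (MulAut.conj h⁻¹).toMonoidHom = K := by
  rw [map_conj_inv_map, inv_mul_cancel, map_one]
  exact K.map_id

theorem map_inv_map (K : Subgroup G) (h : G) :
    (K.map (MulAut.conj h⁻¹).toMonoidHom).map (MulAut.conj h).toMonoidHom = K := by
  rw [map_conj_inv_map, mul_inv_cancel, map_one]
  exact K.map_id

theorem card_map_conj (K : Subgroup G) (h : G) :
    Nat.card (K.map (MulAut.conj h).toMonoidHom) = Nat.card K :=
  card_map_of_injective (f := (MulAut.conj h).toMonoidHom) (MulAut.conj h).injective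

/-- The hypotheses: `A` and its conjugate by `h` meet in a nontrivial `2`-group of index `3`,
which `h` does not normalise. -/
structure Setup (A : Subgroup G) (h : G) (n : ℕ) : Prop where
  pos : 1 ≤ n
  card_A : Nat.card A = 3 * 2 ^ n
  card_C : Nat.card (path A h 1) = 2 ^ n
  moves : (path A h 1).map (MulAut.conj h).toMonoidHom ≠ path A h 1
  core : ∀ K : Subgroup G, K ≤ A → K ≤ A.map (MulAut.conj h).toMonoidHom →
    A ≤ normalizer (K : Set G) →
    A.map (MulAut.conj h).toMonoidHom ≤ normalizer (K : Set G) → K = ⊥

variable {A : Subgroup G} {h : G} {n : ℕ}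

theorem Setup.card_path_le (S : Setup A h n) {k : ℕ} (hk : 1 ≤ k) :
    path A h (k + 1) = path A h k ∨ Nat.card (path A h k) = 2 * Nat.card (path A h (k + 1)) := by
  have hle : path A h (k + 1) ≤ path A h k := path_antitone A h (Nat.le_succ k)
  obtain ⟨q, hq⟩ := card_dvd_of_le hle
  -- `q` is a power of two and at most three
  have hdvd : Nat.card (path A h k) ∣ 2 ^ n := S.card_C ▸ card_dvd_of_le (path_antitone A h hk)
  have hqdvd : q ∣ 2 ^ n := (Dvd.intro_left _ hq.symm).trans hdvd
  obtain ⟨e, -, rfl⟩ := (Nat.dvd_prime_pow Nat.prime_two).1 hqdvd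
  have hkle : path A h k ≤ A.map (MulAut.conj (h ^ k)).toMonoidHom := by
    obtain ⟨j, rfl⟩ := Nat.exists_eq_add_of_le' hk
    exact inf_le_right
  have hrel : (A.map (MulAut.conj (h ^ (k + 1))).toMonoidHom).relIndex
      (A.map (MulAut.conj (h ^ k)).toMonoidHom) = 3 := by
    rw [pow_succ, ← map_conj_inv_map, ← inf_relIndex_left,
      ← Subgroup.map_inf _ _ _ (MulAut.conj (h ^ k)).injective,
      relIndex_map_map_of_injective _ _ (MulAut.conj (h ^ k)).injective]
    have h1 := card_mul_index ((A ⊓ A.map (MulAut.conj h).toMonoidHom).subgroupOf A)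
    rw [Nat.card_congr (subgroupOfEquivOfLe inf_le_left).toEquiv,
      show A ⊓ A.map (MulAut.conj h).toMonoidHom = path A h 1 by simp [path], S.card_C,
      S.card_A, mul_comm 3] at h1
    rw [show A ⊓ A.map (MulAut.conj h).toMonoidHom = path A h 1 by simp [path]]
    exact Nat.eq_of_mul_eq_mul_left (by positivity) h1
  have hrel2 : (path A h (k + 1)).relIndex (path A h k) ≤ 3 := by
    rw [path, inf_relIndex_left]
    exact (relIndex_le_of_le_right hkle (by rw [hrel]; norm_num)).trans hrel.le
  have hrel3 : (path A h (k + 1)).relIndex (path A h k) = 2 ^ e := by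
    have h1 := card_mul_index ((path A h (k + 1)).subgroupOf (path A h k))
    rw [Nat.card_congr (subgroupOfEquivOfLe hle).toEquiv, hq] at h1
    exact Nat.eq_of_mul_eq_mul_left Nat.card_pos h1
  rw [hrel3] at hrel2
  rcases e with _ | _ | e
  · exact Or.inl (Subgroup.eq_of_le_of_card_ge hle (by rw [hq, pow_zero, mul_one]))
  · exact Or.inr (by rw [hq, mul_comm]; rfl)
  · exfalso
    rw [pow_succ, pow_succ] at hrel2
    have := Nat.two_pow_pos e
    omega

/-- A repetition in the path only happens at the trivial subgroup. -/
theorem Setup.eq_bot_of_stable (S : Setup A h n) {k : ℕ} (hk : 1 ≤ k)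
    (he : path A h (k + 1) = path A h k) : path A h k = ⊥ := by
  induction k using Nat.strong_induction_on with
  | _ k ih =>
    by_cases hex : ∃ j, 1 ≤ j ∧ j < k ∧ path A h (j + 1) = path A h j
    · obtain ⟨j, h1, h2, h3⟩ := hex
      exact eq_bot_iff.2 ((path_antitone A h h2.le).trans (ih j h2 h1 h3).le)
    push Not at hex
    set K := path A h k
    have hstab : K.map (MulAut.conj h).toMonoidHom = K := by
      refine (Subgroup.eq_of_le_of_card_ge ?_ (card_map_conj K h).le).symm
      calc K = path A h (k + 1) := he.symm
        _ ≤ _ := by rw [path_succ]; exact inf_le_right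
    have hk2 : 2 ≤ k := by
      by_contra hlt
      obtain rfl : k = 1 := by omega
      exact S.moves hstab
    have hinv : ∀ {M : Subgroup G}, M ≤ normalizer (K : Set G) →
        M.map (MulAut.conj h⁻¹).toMonoidHom ≤ normalizer (K : Set G) := by
      intro M hM
      refine (map_mono hM).trans ((le_normalizer_map _).trans (le_of_eq ?_))
      conv_lhs => rw [← hstab, map_map_inv]
    have key : ∀ i j : ℕ, i + j + 1 = k → path A h j ≤ normalizer (K : Set G) := by
      intro i
      induction i with
      | zero =>
        intro j hj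
        rcases S.card_path_le (k := j) (by omega) with h1 | h1
        · exact absurd h1 (hex j (by omega) (by omega))
        · obtain rfl : j + 1 = k := by omega
          haveI : (K.subgroupOf (path A h j)).Normal := by
            refine normal_of_index_eq_two ?_
            have h2 := card_mul_index (K.subgroupOf (path A h j))
            rw [Nat.card_congr (subgroupOfEquivOfLe (path_antitone A h (Nat.le_succ j))).toEquiv,
              h1, mul_comm 2] at h2
            exact Nat.eq_of_mul_eq_mul_left Nat.card_pos h2
          exact le_normalizer_of_normal_subgroupOf (path_antitone A h (Nat.le_succ j))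
      | succ i ihi =>
        intro j hj
        have hP := ihi (j + 1) (by omega)
        set P := path A h (j + 1)
        have hP' : P.map (MulAut.conj h⁻¹).toMonoidHom ≤ path A h j := by
          calc P.map (MulAut.conj h⁻¹).toMonoidHom
              ≤ ((path A h j).map (MulAut.conj h).toMonoidHom).map
                  (MulAut.conj h⁻¹).toMonoidHom :=
                map_mono (by rw [show P = path A h (j + 1) from rfl, path_succ]; exact inf_le_right)
            _ = path A h j := map_map_inv _ _
        have hne : P ⊔ P.map (MulAut.conj h⁻¹).toMonoidHom ≠ P := by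
          intro heq
          have h1 : P.map (MulAut.conj h⁻¹).toMonoidHom = P :=
            Subgroup.eq_of_le_of_card_ge (sup_eq_left.1 heq) (card_map_conj P _).ge
          have h2 : P.map (MulAut.conj h).toMonoidHom = P := by
            conv_lhs => rw [← h1, map_inv_map]
          refine hex (j + 1) (by omega) (by omega) ?_
          rw [path_succ, show path A h (j + 1) = P from rfl, h2, inf_eq_right]
          exact (path_antitone A h (Nat.zero_le _) : P ≤ A)
        have htop : P ⊔ P.map (MulAut.conj h⁻¹).toMonoidHom = path A h j := by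
          rcases Nat.eq_zero_or_pos j with rfl | hj0
          · exact eq_top_of_prime_index Nat.prime_three le_sup_left
              (sup_le (path_antitone A h (Nat.le_succ 0)) hP') hne
              (by rw [show path A h 0 = A from rfl, S.card_A, show P = path A h 1 from rfl, S.card_C])
          · rcases S.card_path_le (k := j) hj0 with h1 | h1
            · exact absurd h1 (hex j hj0 (by omega))
            · exact eq_top_of_prime_index Nat.prime_two le_sup_left
                (sup_le (path_antitone A h (Nat.le_succ j)) hP') hne h1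
        rw [← htop]
        exact sup_le hP (hinv hP)
    have hA : A ≤ normalizer (K : Set G) := key (k - 1) 0 (by omega)
    refine S.core K (path_antitone A h (Nat.zero_le _)) ?_ hA ?_
    · rw [← hstab]; exact map_mono (path_antitone A h (Nat.zero_le _))
    · refine (map_mono hA).trans ((le_normalizer_map _).trans (le_of_eq ?_))
      rw [hstab]

theorem Setup.card_path (S : Setup A h n) {k : ℕ} (hk : 1 ≤ k) (hkn : k ≤ n + 1) :
    Nat.card (path A h k) = 2 ^ (n + 1 - k) := by
  induction k, hk using Nat.le_induction with
  | base => rw [S.card_C]; rfl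
  | succ k hk ih =>
    rcases S.card_path_le hk with h1 | h1
    · exfalso
      have h2 := ih (by omega)
      rw [S.eq_bot_of_stable hk h1, card_bot] at h2
      have : 1 < 2 ^ (n + 1 - k) := Nat.one_lt_pow (by omega) (by norm_num)
      omega
    · rw [ih (by omega), show n + 1 - k = (n + 1 - (k + 1)) + 1 by omega, pow_succ'] at h1
      exact (Nat.eq_of_mul_eq_mul_left (by norm_num) h1).symm

theorem Setup.path_step (S : Setup A h n) {k : ℕ} (hkn : k + 1 ≤ n) :
    path A h (k + 1) ⊔ (path A h (k + 1)).map (MulAut.conj h⁻¹).toMonoidHom = path A h k := by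
  set P := path A h (k + 1)
  have hP' : P.map (MulAut.conj h⁻¹).toMonoidHom ≤ path A h k := by
    calc P.map (MulAut.conj h⁻¹).toMonoidHom
        ≤ ((path A h k).map (MulAut.conj h).toMonoidHom).map (MulAut.conj h⁻¹).toMonoidHom :=
          map_mono (by rw [show P = path A h (k + 1) from rfl, path_succ]; exact inf_le_right)
      _ = path A h k := map_map_inv _ _
  have hne : P ⊔ P.map (MulAut.conj h⁻¹).toMonoidHom ≠ P := by
    intro heq
    have h1 : P.map (MulAut.conj h⁻¹).toMonoidHom = P :=
      Subgroup.eq_of_le_of_card_ge (sup_eq_left.1 heq) (card_map_conj P _).ge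
    have h2 : P.map (MulAut.conj h).toMonoidHom = P := by
      conv_lhs => rw [← h1, map_inv_map]
    have h3 : path A h (k + 2) = P := by
      rw [path_succ, show path A h (k + 1) = P from rfl, h2, inf_eq_right]
      exact (path_antitone A h (Nat.zero_le _) : P ≤ A)
    have h4 := S.card_path (k := k + 2) (by omega) (by omega)
    rw [h3, show P = path A h (k + 1) from rfl, S.card_path (by omega) (by omega)] at h4
    have := Nat.pow_right_injective (le_refl 2) h4
    omega
  rcases Nat.eq_zero_or_pos k with rfl | hk0
  · exact eq_top_of_prime_index Nat.prime_three le_sup_left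
      (sup_le (path_antitone A h (Nat.le_succ 0)) hP') hne
      (by rw [show path A h 0 = A from rfl, S.card_A, show P = path A h 1 from rfl, S.card_C])
  · refine eq_top_of_prime_index Nat.prime_two le_sup_left
      (sup_le (path_antitone A h (Nat.le_succ k)) hP') hne ?_
    rw [S.card_path hk0 (by omega), show P = path A h (k + 1) from rfl,
      S.card_path (by omega) (by omega), ← pow_succ', show n + 1 - (k + 1) + 1 = n + 1 - k by omega]

/-- The chain, generating `A` by `n + 1` consecutive members. -/
theorem Setup.exists_chain (S : Setup A h n) :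
    ∃ c : Chain G n, c.S 0 (n + 1) = A ∧ c.NoCommon := by
  have hc1 := S.card_path (k := n) S.pos (Nat.le_succ n)
  rw [show n + 1 - n = 1 by omega, pow_one] at hc1
  obtain ⟨y, hy⟩ := (isCyclic_iff_exists_zpowers_eq_top (α := path A h n)).1
    (@isCyclic_of_prime_card _ _ 2 ⟨Nat.prime_two⟩ hc1)
  let x : ℤ → G := fun i => h⁻¹ ^ i * (y : G) * (h⁻¹ ^ i)⁻¹
  have hshift : ∀ i, h⁻¹ * x i * h⁻¹⁻¹ = x (i + 1) := fun i => by
    simp only [x]
    rw [add_comm i 1, zpow_one_add]
    group
  let T : ℤ → ℕ → Subgroup G := fun i m => closure (x '' Set.Ico i (i + m))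
  have hTmap : ∀ (i : ℤ) (m : ℕ), (T i m).map (MulAut.conj h⁻¹).toMonoidHom = T (i + 1) m := by
    intro i m
    simp only [T]
    rw [MonoidHom.map_closure, ← Set.image_comp]
    congr 1
    ext g
    simp only [Set.mem_image, Set.mem_Ico, Function.comp_apply, MulEquiv.coe_toMonoidHom,
      MulAut.conj_apply, hshift]
    constructor
    · rintro ⟨j, hj, rfl⟩
      exact ⟨j + 1, ⟨by omega, by omega⟩, rfl⟩
    · rintro ⟨j, hj, rfl⟩
      exact ⟨j - 1, ⟨by omega, by omega⟩, by rw [sub_add_cancel]⟩
  have hpath : ∀ m : ℕ, 1 ≤ m → m ≤ n + 1 → T 0 m = path A h (n + 1 - m) := by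
    intro m hm
    induction m, hm using Nat.le_induction with
    | base =>
      intro _
      have h1 := congrArg (Subgroup.map (path A h n).subtype) hy
      rw [MonoidHom.map_zpowers, ← MonoidHom.range_eq_map, Subgroup.range_subtype] at h1
      rw [show n + 1 - 1 = n by omega, ← h1, zpowers_eq_closure]
      simp only [T]
      congr 1
      ext g
      simp only [Set.mem_image, Set.mem_Ico, Set.mem_singleton_iff]
      constructor
      · rintro ⟨j, hj, rfl⟩
        rw [show j = 0 by omega]
        simp [x]
      · rintro rfl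
        exact ⟨0, by omega, by simp [x]⟩
    | succ m hm ih =>
      intro hmn
      rw [show n + 1 - (m + 1) = n - m by omega, ← S.path_step (k := n - m) (by omega),
        show n - m + 1 = n + 1 - m by omega, ← ih (by omega), hTmap]
      refine le_antisymm ((closure_le _).2 ?_) (sup_le (closure_mono (Set.image_mono ?_))
        (closure_mono (Set.image_mono ?_)))
      · rintro _ ⟨j, ⟨hj1, hj2⟩, rfl⟩
        by_cases hj : j < (m : ℤ)
        · exact mem_sup_left (subset_closure ⟨j, ⟨by omega, by omega⟩, rfl⟩)
        · exact mem_sup_right (subset_closure ⟨j, ⟨by omega, by omega⟩, rfl⟩)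
      · exact fun j hj => ⟨hj.1, by have := hj.2; omega⟩
      · intro j hj
        simp only [Set.mem_Ico] at hj ⊢
        omega
  have hcard : ∀ (i : ℤ) (m : ℕ), m ≤ n → Nat.card (T i m) = 2 ^ m := by
    intro i m hm
    have hzero : ∀ j : ℤ, Nat.card (T j m) = Nat.card (T 0 m) := by
      intro j
      induction j using Int.induction_on with
      | zero => rfl
      | succ j ih => rw [← ih, ← hTmap, card_map_conj]
      | pred j ih =>
        rw [← ih, show (-(j : ℤ)) = (-(j : ℤ) - 1) + 1 by ring, ← hTmap, card_map_conj]
        rw [show (-(j : ℤ) - 1) + 1 - 1 = -(j : ℤ) - 1 by ring]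
    rw [hzero]
    rcases Nat.eq_zero_or_pos m with rfl | hm0
    · simp [T]
    · rw [hpath m hm0 (by omega), S.card_path (by omega) (by omega),
        show n + 1 - (n + 1 - m) = m by omega]
  let c : Chain G n := ⟨x, h⁻¹, hshift, hcard⟩
  have htop : c.S 0 (n + 1) = A := by
    show T 0 (n + 1) = A
    rw [hpath (n + 1) (by omega) le_rfl, Nat.sub_self]
    rfl
  refine ⟨c, htop, fun K hK hnorm => ?_⟩
  have hgen : ∀ (i : ℤ), 0 ≤ i → i ≤ 1 → c.S i (n + 1) ≤ normalizer (K : Set G) := by
    intro i hi1 hi2
    refine c.S_le fun j h1 h2 => ?_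
    rw [mem_normalizer_iff]
    have hj := hnorm j (by omega) (by omega)
    intro g
    rw [c.inv_eq S.pos]
    refine ⟨hj g, fun hg => ?_⟩
    have := hj _ hg
    simp only [← mul_assoc, c.mul_self S.pos, one_mul] at this
    rwa [mul_assoc, c.mul_self S.pos, mul_one] at this
  have hKA : K ≤ A := hK.trans ((c.S_mono (by omega) (by omega)).trans htop.le)
  have hshiftA : c.S 1 (n + 1) = A.map (MulAut.conj h⁻¹).toMonoidHom := by
    rw [← htop]
    exact (c.map_shift 0 (n + 1)).symm
  have h0 : K.map (MulAut.conj h).toMonoidHom = ⊥ := by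
    refine S.core _ ?_ (map_mono hKA) ?_ ?_
    · calc K.map (MulAut.conj h).toMonoidHom
          ≤ (A.map (MulAut.conj h⁻¹).toMonoidHom).map (MulAut.conj h).toMonoidHom :=
            map_mono (hK.trans ((c.S_mono le_rfl (by omega)).trans hshiftA.le))
        _ = A := map_inv_map A h
    · calc A = (A.map (MulAut.conj h⁻¹).toMonoidHom).map (MulAut.conj h).toMonoidHom :=
            (map_inv_map A h).symm
        _ ≤ _ := (map_mono (hshiftA ▸ hgen 1 (by omega) le_rfl)).trans (le_normalizer_map _)
    · exact (map_mono (htop ▸ hgen 0 le_rfl (by omega))).trans (le_normalizer_map _)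
  rwa [Subgroup.map_eq_bot_iff_of_injective _ (MulAut.conj h).injective] at h0

end CfsgLib.SimsThree
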