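import Cfsg.Agent.SimsThree.Bound

/-!
# The length of a chain without a common normal subgroup
-/

set_option autoImplicit false

namespace CfsgLib.SimsThree

open Subgroup

variable {G : Type*} [Group G] {n : ℕ} (c : Chain G n)

/-- No nontrivial subgroup of `S 1 (n - 1)` is normalised by `x 0, …, x (n + 1)`. -/
def Chain.NoCommon : Prop :=
  ∀ K : Subgroup G, K ≤ c.S 1 (n - 1) →
    (∀ j : ℤ, 0 ≤ j → j ≤ n + 1 → ∀ g ∈ K, c.x j * g * c.x j ∈ K) → K = ⊥

theorem Chain.ne_one (hn : 1 ≤ n) (i : ℤ) : c.x i ≠ 1 := fun h => by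
  have h1 := c.notMem_right i (m := 0) hn
  rw [h] at h1
  exact h1 (one_mem _)

/-- The critical distance. -/
theorem Chain.exists_critical : ∃ r, c.CommUpTo r ∧ r ≤ n ∧ (n = 0 ∨ 1 ≤ r) ∧
    (r < n → ¬ Commute (c.x 0) (c.x r)) := by
  classical
  by_cases h : ∃ k, k < n ∧ ¬ Commute (c.x 0) (c.x k)
  · have hs := Nat.find_spec h
    refine ⟨Nat.find h, fun k hk => ?_, hs.1.le, Or.inr ?_, fun _ => hs.2⟩
    · by_contra hc
      exact Nat.find_min h hk ⟨hk.trans hs.1, hc⟩
    · by_contra h0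
      have := hs.2
      rw [show Nat.find h = 0 by omega] at this
      exact this (by simp)
  · push Not at h
    exact ⟨n, h, le_rfl, by omega, fun h' => absurd h' (lt_irrefl n)⟩

theorem Chain.exists_comm_eq {r : ℕ} (hr : c.CommUpTo r) {k j : ℤ} (h : (j - k).natAbs < r)
    (hn : 1 ≤ n) : c.x k * c.x j * c.x k * c.x j = 1 :=
  (Chain.not_commute_iff c hn).1 (Chain.CommUpTo.commute c hr (by omega))

variable [Finite G]

/-- Twice the critical distance is at most `n + 2`. -/
theorem Chain.two_mul_le (hK : c.NoCommon) {r : ℕ} (hr : c.CommUpTo r) (hrn : r ≤ n) :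
    2 * r ≤ n + 2 := by
  by_contra hlt
  have hn : 1 ≤ n := by omega
  refine c.ne_one hn (r - 1 : ℕ) (zpowers_eq_bot.1 (hK _ (zpowers_le.2 (c.mem_S (by omega) (by omega)))
    fun j h1 h2 g hg => ?_))
  have hc : Commute (c.x j) g := by
    obtain ⟨z, rfl⟩ := hg
    exact (Chain.CommUpTo.commute c hr (by omega)).zpow_right z
  rw [hc.eq, mul_assoc, c.mul_self hn, mul_one]
  exact hg

theorem Chain.comm_ne_one (hn : 1 ≤ n) {r : ℕ} (hnc : ¬ Commute (c.x 0) (c.x r)) :
    c.x 0 * c.x r * c.x 0 * c.x r ≠ 1 := fun h => hnc ((Chain.not_commute_iff c hn).2 h)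

/-- Three times the critical distance is at least `2n`. -/
theorem Chain.three_mul_ge {r : ℕ} (hr : c.CommUpTo r) (hr1 : 1 ≤ r) (hrn : r + 1 ≤ n)
    (hnc : ¬ Commute (c.x 0) (c.x r)) : 2 * n ≤ 3 * r := by
  by_contra hlt
  set k := min (n - r) r with hk
  obtain ⟨h1, h2⟩ := Chain.comm_mem_both c hr hr1 hrn hnc (k := k) (by omega) (by omega) (by omega)
  have hd := Chain.disjoint_S c hr (i := 1) (m := k - 1) (k := r - k) (by omega) (by omega)
  rw [show (1 : ℤ) + ((k - 1 : ℕ) : ℤ) = (k : ℤ) by omega] at hd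
  refine c.comm_ne_one (by omega) hnc (mem_bot.1 (hd ▸ Subgroup.mem_inf.2 ⟨?_, h1⟩))
  exact c.S_mono le_rfl (by omega) h2

theorem Chain.cast_shift (i : ℤ) (m : ℕ) {j : ℤ} (h : j = i) : c.S i m = c.S j m := by rw [h]

/-- The case `n = 6` is impossible. -/
theorem Chain.ne_six (hK : c.NoCommon) (hr : c.CommUpTo 4) (hn6 : n = 6)
    (hnc : ¬ Commute (c.x 0) (c.x 4)) : False := by
  have hn : 1 ≤ n := by omega
  obtain ⟨hw2, hw1⟩ := Chain.comm_mem_both c hr (r := 4) (by omega) (by omega) (by exact_mod_cast hnc)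
    (k := 2) (by omega) (by omega) (by omega)
  push_cast at hw1 hw2
  set w := c.x 0 * c.x 4 * c.x 0 * c.x 4
  set v := c.x 0 * c.x 5 * c.x 0 * c.x 5 with hv
  have hv4 : v ∈ c.S 1 4 := by
    have := c.comm_mem (j := 0) (k := 4) (by omega)
    simpa using this
  have hv2 : v * v = 1 := Chain.S_sq c hr hn le_rfl hv4
  have h5 : Commute (c.x 5) v := by
    show c.x 5 * v = v * c.x 5
    calc c.x 5 * v = c.x 5 * v * (c.x 5 * c.x 5) := by rw [c.mul_self hn, mul_one]
      _ = v⁻¹ * c.x 5 := by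
          rw [hv]; simp only [mul_inv_rev, c.inv_eq hn, mul_assoc, c.mul_self hn, mul_one]
      _ = v * c.x 5 := by rw [inv_eq_of_mul_eq_one_right hv2]
  have h0 : Commute (c.x 0) v := by
    show c.x 0 * v = v * c.x 0
    calc c.x 0 * v = v⁻¹ * c.x 0 := by
          rw [hv]; simp only [mul_inv_rev, c.inv_eq hn, mul_assoc, ← mul_assoc (c.x 0) (c.x 0),
            c.mul_self hn, one_mul, mul_one]
      _ = v * c.x 0 := by rw [inv_eq_of_mul_eq_one_right hv2]
  have hv3 : v ∈ c.S 2 3 := by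
    refine (Chain.split_head c hr hn (i := 1) (m := 3) le_rfl hv4).resolve_right fun h => hnc ?_
    have h1 : Commute (c.x 1 * v) (c.x 5) :=
      Chain.CommUpTo.commute_S c hr h fun b hb1 hb2 => by omega
    have h2 : Commute (c.x 1) (c.x 5) := by
      have := h1.mul_left (h5.symm.inv_left)
      rwa [mul_inv_cancel_right] at this
    have := (c.commute_add (i := 0) (j := 4) 1).1 (by simpa using h2)
    exact this
  have hv22 : v ∈ c.S 2 2 := by
    refine (Chain.split_tail c hr hn (i := 2) (m := 2) (by omega) hv3).resolve_right fun h => hnc ?_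
    have h1 : Commute (v * c.x ((2 : ℤ) + 2)) (c.x 0) :=
      Chain.CommUpTo.commute_S c hr h fun b hb1 hb2 => by omega
    have := h0.symm.inv_left.mul_left h1
    rw [inv_mul_cancel_left] at this
    exact this.symm
  have hx : ∀ {i : ℤ}, 2 ≤ i → i ≤ 5 → c.x i ∈ c.S 2 4 := fun h1 h2 => c.mem_S h1 (by omega)
  -- commutators of the members with the members in the middle lie in the middle
  have key : ∀ j k : ℤ, 0 ≤ j → j ≤ 7 → 2 ≤ k → k ≤ 5 →
      c.x k * c.x j * c.x k * c.x j ∈ c.S 2 4 := by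
    intro j k hj1 hj2 hk1 hk2
    have hflip : c.x j * c.x k * c.x j * c.x k ∈ c.S 2 4 →
        c.x k * c.x j * c.x k * c.x j ∈ c.S 2 4 := fun h => by
      simpa [c.inv_eq hn, mul_assoc] using inv_mem h
    by_cases hd : (j - k).natAbs < 4
    · rw [Chain.exists_comm_eq c hr hd hn]; exact one_mem _
    have hcases : (j = 0 ∧ k = 4) ∨ (j = 1 ∧ k = 5) ∨ (j = 6 ∧ k = 2) ∨ (j = 7 ∧ k = 3) ∨
        (j = 0 ∧ k = 5) ∨ (j = 7 ∧ k = 2) := by omega
    rcases hcases with ⟨rfl, rfl⟩ | ⟨rfl, rfl⟩ | ⟨rfl, rfl⟩ | ⟨rfl, rfl⟩ | ⟨rfl, rfl⟩ | ⟨rfl, rfl⟩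
    · exact hflip (c.S_mono le_rfl (by omega) hw2)
    · have := c.shift_mem hw2 1
      rw [c.shift_comm] at this
      exact hflip (c.S_mono (by omega) (by omega) (show _ ∈ c.S 3 2 by simpa using this))
    · have := c.shift_mem hw1 2
      rw [c.shift_comm] at this
      exact c.S_mono (by omega) (by omega) (show _ ∈ c.S 3 2 by simpa using this)
    · have := c.shift_mem hw1 3
      rw [c.shift_comm] at this
      exact c.S_mono (by omega) (by omega) (show _ ∈ c.S 4 2 by simpa using this)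
    · exact hflip (c.S_mono le_rfl (by omega) hv22)
    · have := c.shift_mem hv22 2
      rw [c.shift_comm] at this
      exact c.S_mono (by omega) (by omega) (show _ ∈ c.S 4 2 by simpa using this)
  have := hK (c.S 2 4) (c.S_mono (by omega) (by omega)) fun j hj1 hj2 g hg => by
    induction hg using closure_induction with
    | mem x hx' =>
      obtain ⟨k, ⟨hk1, hk2⟩, rfl⟩ := hx'
      have h1 := key j k hj1 (by omega) hk1 (by omega)
      have := mul_mem (hx hk1 (by omega)) h1
      rwa [← mul_assoc, ← mul_assoc, ← mul_assoc, c.mul_self hn, one_mul] at this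
    | one => rw [mul_one, c.mul_self hn]; exact one_mem _
    | mul a b _ _ h1 h2 =>
      have := mul_mem h1 h2
      rwa [mul_assoc (c.x j * a), ← mul_assoc (c.x j) (c.x j * b), ← mul_assoc (c.x j) (c.x j),
        c.mul_self hn, one_mul, ← mul_assoc, mul_assoc (c.x j) a b] at this
    | inv a _ h1 =>
      have := inv_mem h1
      rwa [mul_inv_rev, mul_inv_rev, c.inv_eq hn, ← mul_assoc] at this
  exact c.ne_one hn 2 (mem_bot.1 (this ▸ hx (by omega) (by omega)))

/-- The chain has length at most four. -/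
theorem Chain.length_le (hK : c.NoCommon) : n ≤ 4 := by
  obtain ⟨r, hr, hrn, hr1, hnc⟩ := c.exists_critical
  have h2 := c.two_mul_le hK hr hrn
  by_cases h : r < n
  · have h3 := c.three_mul_ge hr (by omega) (by omega) (hnc h)
    by_contra hlt
    have h4 : n = 6 ∧ r = 4 := by omega
    obtain ⟨h6, rfl⟩ := h4
    exact c.ne_six hK hr h6 (by exact_mod_cast hnc h)
  · omega

end CfsgLib.SimsThree
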